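/-
An extension field of a field with an involution, and hermitian spaces over it seen through the trace.
-/
import Cfsg.Agent.Lib.Classical.FieldExt.Symp.Sym

set_option autoImplicit false
set_option linter.style.haveILetI false
set_option linter.unusedSectionVars false

namespace Cfsg.Agent.Classical.FieldExt.Herm

open Cfsg.Agent.Classical.FieldExt

variable {F E : Type*} [Field F] [Field E] [Algebra F E]

/-- The trace. -/
local notation "tr" => Algebra.trace F E

/-- An involution of the big field inducing a nontrivial one on the small field. -/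
structure IsExtInv (σ : F ≃+* F) (τ : E ≃+* E) : Prop where
  invol : ∀ x, τ (τ x) = x
  base : ∀ a, τ (algebraMap F E a) = algebraMap F E (σ a)
  ne : ∃ a, σ a ≠ a

variable {σ : F ≃+* F} {τ : E ≃+* E} (hτ : IsExtInv σ τ)

include hτ

theorem IsExtInv.small_invol (a : F) : σ (σ a) = a := by
  refine (algebraMap F E).injective ?_
  rw [← hτ.base, ← hτ.base, hτ.invol]

theorem IsExtInv.tau_smul (a : F) (x : E) : τ (a • x) = σ a • τ x := by
  rw [Algebra.smul_def, Algebra.smul_def, map_mul, hτ.base]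

theorem IsExtInv.exists_ne : ∃ a : F, a - σ a ≠ 0 ∧ σ (a - σ a) = -(a - σ a) := by
  obtain ⟨a, ha⟩ := hτ.ne
  exact ⟨a, sub_ne_zero.mpr (Ne.symm ha), by rw [map_sub, hτ.small_invol, neg_sub]⟩

/-- Every element is a combination of fixed ones. -/
theorem IsExtInv.split {l : F} (hl : l - σ l ≠ 0) (x : E) :
    ∃ a b : E, τ a = a ∧ τ b = b ∧ x = a + l • b := by
  set z := algebraMap F E (l - σ l) with hz
  have hz0 : z ≠ 0 := (map_ne_zero _).mpr hl
  have hzt : τ z = -z := by rw [hz, hτ.base, map_sub, hτ.small_invol, ← map_neg, neg_sub]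
  obtain ⟨b, hb⟩ : ∃ b, b = (x - τ x) / z := ⟨_, rfl⟩
  have hbt : τ b = b := by rw [hb, map_div₀, map_sub, hτ.invol, hzt, div_neg, ← neg_div, neg_sub]
  refine ⟨x - l • b, b, ?_, hbt, (sub_add_cancel _ _).symm⟩
  rw [map_sub, hτ.tau_smul, hbt, sub_eq_sub_iff_add_eq_add, ← sub_eq_sub_iff_add_eq_add]
  rw [Algebra.smul_def, Algebra.smul_def, hb]
  have h : (algebraMap F E l - algebraMap F E (σ l)) * ((x - τ x) / z) = x - τ x := by
    rw [← map_sub, ← hz, mul_div_assoc', mul_div_cancel_left₀ _ hz0]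
  linear_combination h

/-- An element with prescribed symmetrised value. -/
theorem IsExtInv.exists_half {d : E} (hd : τ d = d) : ∃ z : E, z + τ z = d := by
  obtain ⟨l, hl⟩ : ∃ l : F, l + σ l ≠ 0 := by
    by_contra hcon
    push Not at hcon
    have h2 : (2 : F) = 0 := by have := hcon 1; rwa [map_one, one_add_one_eq_two] at this
    obtain ⟨a, ha⟩ := hτ.ne
    exact ha (sub_eq_zero.mp (by linear_combination (hcon a) + (-a) * h2))
  have hl' : algebraMap F E l + algebraMap F E (σ l) ≠ 0 := by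
    rw [← map_add]; exact (map_ne_zero _).mpr hl
  refine ⟨d * algebraMap F E l / (algebraMap F E l + algebraMap F E (σ l)), ?_⟩
  rw [map_div₀, map_mul, map_add, hd, hτ.base, hτ.base, hτ.small_invol, add_comm (algebraMap F E (σ l)),
    ← add_div, ← mul_add, mul_div_cancel_right₀ _ hl']

theorem IsExtInv.gal_comm [Finite E] (g : E ≃ₐ[F] E) (x : E) : g (τ x) = τ (g x) := by
  haveI : Finite F := Finite.of_injective _ (algebraMap F E).injective
  letI := Fintype.ofFinite F
  haveI := finiteDimensional (F := F) (E := E)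
  obtain ⟨n, hn⟩ := (FiniteField.bijective_frobeniusAlgEquivOfAlgebraic_pow F E).2 g
  have h : ∀ (k : ℕ) (y : E), (FiniteField.frobeniusAlgEquivOfAlgebraic F E ^ k) y = y ^ (Fintype.card F ^ k) := by
    intro k
    induction k with
    | zero => intro y; simp
    | succ k ih =>
      intro y
      rw [pow_succ, AlgEquiv.mul_apply, ih, FiniteField.coe_frobeniusAlgEquivOfAlgebraic, ← pow_mul, pow_succ']
  rw [← hn, h, h, map_pow]

/-- A nontrivial automorphism moves some fixed element. -/
theorem IsExtInv.exists_moved [Finite E] {g : E ≃ₐ[F] E} (hg : g ≠ 1) : ∃ a : E, τ a = a ∧ g a ≠ a := by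
  by_contra hcon
  push Not at hcon
  obtain ⟨l, hl, -⟩ := hτ.exists_ne
  refine hg (AlgEquiv.ext fun x => ?_)
  obtain ⟨a, b, ha, hb, rfl⟩ := hτ.split hl x
  rw [map_add, map_smul, hcon a ha, hcon b hb, AlgEquiv.one_apply]

theorem IsExtInv.tr_tau [Finite E] (x : E) : tr (τ x) = σ (tr x) := by
  classical
  haveI : Finite (E ≃ₐ[F] E) := Finite.of_injective (fun g : E ≃ₐ[F] E => (g : E → E)) DFunLike.coe_injective
  letI := Fintype.ofFinite (E ≃ₐ[F] E)
  refine (algebraMap F E).injective ?_
  rw [← hτ.base, Symp.tr_sum, Symp.tr_sum, map_sum]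
  exact Finset.sum_congr rfl fun g _ => hτ.gal_comm g x

omit hτ

/-- A hermitian form. -/
structure IsHerm {V : Type*} [AddCommGroup V] [Module E V] (τ : E ≃+* E) (φ : V → V → E) : Prop where
  add_left : ∀ x y z, φ (x + y) z = φ x z + φ y z
  smul_left : ∀ (c : E) x z, φ (c • x) z = c * φ x z
  symm : ∀ x y, φ y x = τ (φ x y)
  nondeg : ∀ x, (∀ y, φ x y = 0) → x = 0

namespace IsHerm

variable {V : Type*} [AddCommGroup V] [Module E V] {φ : V → V → E} (hφ : IsHerm τ φ)

include hφ

theorem add_right (x y z : V) : φ x (y + z) = φ x y + φ x z := by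
  rw [hφ.symm (y + z) x, hφ.add_left, map_add, ← hφ.symm, ← hφ.symm]

theorem smul_right (c : E) (x z : V) : φ x (c • z) = τ c * φ x z := by
  rw [hφ.symm (c • z) x, hφ.smul_left, map_mul, ← hφ.symm]

theorem zero_left (z : V) : φ 0 z = 0 := by
  rw [← zero_smul E (0 : V), hφ.smul_left, zero_mul]

theorem zero_right (x : V) : φ x 0 = 0 := by rw [hφ.symm 0 x, hφ.zero_left, map_zero]

theorem neg_left (x z : V) : φ (-x) z = -φ x z := by rw [← neg_one_smul E x, hφ.smul_left, neg_one_mul]

theorem neg_right (x z : V) : φ x (-z) = -φ x z := by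
  rw [← neg_one_smul E z, hφ.smul_right, map_neg, map_one, neg_one_mul]

theorem sub_left (x y z : V) : φ (x - y) z = φ x z - φ y z := by
  rw [sub_eq_add_neg, hφ.add_left, hφ.neg_left, sub_eq_add_neg]

theorem sub_right (x y z : V) : φ x (y - z) = φ x y - φ x z := by
  rw [sub_eq_add_neg, hφ.add_right, hφ.neg_right, sub_eq_add_neg]

theorem self_fixed (x : V) : τ (φ x x) = φ x x := (hφ.symm x x).symm

theorem comm_zero {x y : V} (h : φ x y = 0) : φ y x = 0 := by rw [hφ.symm x y, h, map_zero]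

theorem exists_pair_one {x : V} (hx : x ≠ 0) : ∃ y, φ y x = 1 := by
  by_contra hcon
  push Not at hcon
  refine hx (hφ.nondeg x fun y => ?_)
  by_contra hy
  refine hcon ((τ (φ x y))⁻¹ • y) ?_
  rw [hφ.smul_left, hφ.symm x y, inv_mul_cancel₀]
  exact (EmbeddingLike.map_ne_zero_iff).mpr hy

theorem exists_common {x y : V} (hx : x ≠ 0) (hy : y ≠ 0) : ∃ u, φ u x ≠ 0 ∧ φ u y ≠ 0 := by
  obtain ⟨a, ha⟩ := hφ.exists_pair_one hx
  obtain ⟨b, hb⟩ := hφ.exists_pair_one hy
  by_cases h1 : φ a y = 0
  · by_cases h2 : φ b x = 0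
    · exact ⟨a + b, by rw [hφ.add_left, ha, h2, add_zero]; exact one_ne_zero,
        by rw [hφ.add_left, h1, hb, zero_add]; exact one_ne_zero⟩
    · exact ⟨b, h2, by rw [hb]; exact one_ne_zero⟩
  · exact ⟨a, by rw [ha]; exact one_ne_zero, h1⟩

/-- Moving a vector along an isotropic one to an isotropic one. -/
theorem exists_isotropic_shift {σ : F ≃+* F} (hτ : IsExtInv σ τ) {e y : V} (hee : φ e e = 0) (hye : φ y e ≠ 0) :
    ∃ z : E, φ (y + z • e) (y + z • e) = 0 := by
  obtain ⟨w, hw⟩ := hτ.exists_half (d := -φ y y) (by rw [map_neg, hφ.self_fixed])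
  refine ⟨w / φ e y, ?_⟩
  have hey : φ e y ≠ 0 := fun h => hye (hφ.comm_zero h)
  simp only [hφ.add_left, hφ.add_right, hφ.smul_left, hφ.smul_right, hee, mul_zero, add_zero]
  rw [div_mul_cancel₀ _ hey, map_div₀, hφ.symm e y, div_mul_cancel₀ _ ((EmbeddingLike.map_ne_zero_iff).mpr hey)]
  linear_combination hw

theorem exists_dual {σ : F ≃+* F} (hτ : IsExtInv σ τ) {e : V} (he : e ≠ 0) (hee : φ e e = 0) :
    ∃ e', φ e' e = 1 ∧ φ e' e' = 0 := by
  obtain ⟨y, hy⟩ := hφ.exists_pair_one he
  obtain ⟨z, hz⟩ := hφ.exists_isotropic_shift hτ hee (y := y) (by rw [hy]; exact one_ne_zero)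
  exact ⟨y + z • e, by rw [hφ.add_left, hφ.smul_left, hee, mul_zero, add_zero, hy], hz⟩

theorem decomp {e e' : V} (he' : φ e' e = 1) (x : V) : φ (x - φ x e • e') e = 0 := by
  rw [hφ.sub_left, hφ.smul_left, he', mul_one, sub_self]

/-- A vector orthogonal to the orthogonal of `e` lies on its line. -/
theorem eq_smul_of_perp {e e' : V} (he' : φ e' e = 1) {x : V} (h : ∀ u, φ u e = 0 → φ x u = 0) :
    x = φ x e' • e := by
  refine sub_eq_zero.mp (hφ.nondeg _ fun y => ?_)
  have h1 := h _ (hφ.decomp he' y)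
  rw [hφ.sub_right, hφ.smul_right, ← hφ.symm y e, sub_eq_zero] at h1
  rw [hφ.sub_left, hφ.smul_left, h1]
  ring

/-- Maps fixing a line and preserving the trace form preserve the pairing with it. -/
theorem pair_line [Finite E] [Module F V] [IsScalarTower F E V] {g : V → V} {x : V} {e : V}
    (hg : ∀ c : E, Algebra.trace F E (φ (g x) (c • e)) = Algebra.trace F E (φ x (c • e))) : φ (g x) e = φ x e := by
  haveI := finiteDimensional (F := F) (E := E)
  haveI : Finite F := Finite.of_injective _ (algebraMap F E).injective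
  refine sub_eq_zero.mp ((traceForm_nondegenerate F E).2 _ fun c => ?_)
  have h := hg (τ.symm c)
  rw [hφ.smul_right, hφ.smul_right, RingEquiv.apply_symm_apply] at h
  rw [Algebra.traceForm_apply, mul_sub, map_sub, h, sub_self]

end IsHerm

end Cfsg.Agent.Classical.FieldExt.Herm
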