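/-
Skew maps of an extension field for the hermitian trace form, and congruence-stable groups of them.
-/
import Cfsg.Agent.Lib.Classical.FieldExt.Herm.Basic

set_option autoImplicit false
set_option linter.style.haveILetI false
set_option linter.unusedSectionVars false

namespace Cfsg.Agent.Classical.FieldExt.Herm

open Cfsg.Agent.Classical.FieldExt
open Cfsg.Agent.Classical.FieldExt.Symp (IsCoef coef_unique coef_comp gal_sum_eq_zero tr_gal tr_sum coef_mulE)

variable {F E : Type*} [Field F] [Field E] [Algebra F E]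

/-- The trace. -/
local notation "tr" => Algebra.trace F E

/-- Skewness for the hermitian trace form. -/
def IsSkew (τ : E ≃+* E) (A : E →ₗ[F] E) : Prop := ∀ a b, tr (A a * τ b) + tr (a * τ (A b)) = 0

/-- The skew map supported on a pair of automorphisms. -/
def pairU {σ : F ≃+* F} (τ : E ≃+* E) (_ : IsExtInv σ τ) (g : E ≃ₐ[F] E) (t : E) : E →ₗ[F] E :=
  (mulE t).comp (galMap g) - (galMap g⁻¹).comp (mulE (τ t))

variable {σ : F ≃+* F} {τ : E ≃+* E} (hτ : IsExtInv σ τ)

theorem pairU_apply (g : E ≃ₐ[F] E) (t x : E) : pairU τ hτ g t x = t * g x - g⁻¹ (τ t * x) := rfl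

/-- An additive group of skew maps stable under congruence by fixed elements and by `μ`. -/
structure IsCongr (τ : E ≃+* E) (μ : E) (M : AddSubgroup (E →ₗ[F] E)) : Prop where
  skew : ∀ A ∈ M, IsSkew τ A
  scalar : ∀ c, τ c = -c → mulE c ∈ M
  congr : ∀ c, τ c = c → ∀ A ∈ M, (mulE c).comp (A.comp (mulE c)) ∈ M
  congr_mu : ∀ A ∈ M, (mulE μ).comp (A.comp (mulE (τ μ))) ∈ M

include hτ

variable [Finite E] {r : ℕ} {μ : E}

theorem isSkew_pairU (g : E ≃ₐ[F] E) (t : E) : IsSkew τ (pairU τ hτ g t) := by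
  intro a b
  have key : ∀ y x : E, tr (g⁻¹ y * x) = tr (y * g x) := fun y x => by
    rw [← tr_gal g (g⁻¹ y * x), map_mul g, show g (g⁻¹ y) = y from g.apply_symm_apply y]
  rw [pairU_apply, pairU_apply, map_sub, map_mul τ, sub_mul, mul_sub, map_sub, map_sub]
  have h1 : tr (g⁻¹ (τ t * a) * τ b) = tr (a * (τ t * τ (g b))) := by
    rw [key, hτ.gal_comm]; congr 1; ring
  have h2 : tr (a * τ (g⁻¹ (τ t * b))) = tr (t * g a * τ b) := by
    rw [mul_comm a, ← hτ.gal_comm, key, map_mul τ, hτ.invol]; congr 1; ring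
  rw [h1, h2]
  ring

theorem IsCongr.smul_mem {M : AddSubgroup (E →ₗ[F] E)} (hM : IsCongr τ μ M) {a : F} (ha : σ a = a)
    {A : E →ₗ[F] E} (hA : A ∈ M) : a • A ∈ M := by
  haveI : Finite F := Finite.of_injective _ (algebraMap F E).injective
  have hsq : ∀ b : F, σ b = b → ∀ B ∈ M, (b * b) • B ∈ M := fun b hb B hB => by
    have e : (b * b) • B = (mulE (algebraMap F E b)).comp (B.comp (mulE (algebraMap F E b))) :=
      LinearMap.ext fun x => by
        simp only [LinearMap.comp_apply, mulE_apply, LinearMap.smul_apply, ← Algebra.smul_def, map_smul, smul_smul]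
    rw [e]
    exact hM.congr _ (by rw [hτ.base, hb]) _ hB
  obtain ⟨p, hchar⟩ := CharP.exists F
  by_cases h2 : (2 : F) = 0
  · haveI : CharP F 2 := CharTwo.of_one_ne_zero_of_two_eq_zero one_ne_zero h2
    obtain ⟨s, rfl⟩ := FiniteField.isSquare_of_char_two (ringChar.eq F 2) a
    refine hsq s ?_ A hA
    rw [map_mul] at ha
    have h : (σ s - s) * (σ s - s) = 0 := by linear_combination ha + (s * s - σ s * s) * h2
    exact sub_eq_zero.mp (mul_self_eq_zero.mp h)
  · haveI hp : Fact p.Prime := ⟨CharP.char_is_prime F p⟩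
    obtain ⟨k, hk⟩ : ∃ k : ℕ, 2 * (k : F) = 1 := by
      refine ⟨(p + 1) / 2, ?_⟩
      have hodd : p % 2 = 1 := by
        rcases hp.out.eq_two_or_odd with h | h
        · subst h
          exact absurd (CharP.cast_eq_zero F 2) (by simpa using h2)
        · exact h
      have e : 2 * ((p + 1) / 2) = p + 1 := by omega
      have := congrArg (Nat.cast (R := F)) e
      simpa [CharP.cast_eq_zero] using this
    have e : a • A = k • (((a + 1) * (a + 1)) • A - (a * a) • A - (1 * 1 : F) • A) := by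
      rw [← Nat.cast_smul_eq_nsmul F]
      refine LinearMap.ext fun x => ?_
      simp only [LinearMap.smul_apply, LinearMap.sub_apply, ← sub_smul, smul_smul]
      congr 1
      linear_combination (-a) * hk
    rw [e]
    exact nsmul_mem (sub_mem (sub_mem (hsq _ (by rw [map_add, ha, map_one]) A hA) (hsq _ ha A hA))
      (hsq _ (map_one σ) A hA)) _

/-- Skew maps in the span are in the group. -/
theorem IsCongr.mem_of_span {M : AddSubgroup (E →ₗ[F] E)} (hM : IsCongr τ μ M) {x : E →ₗ[F] E}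
    (hx : x ∈ Submodule.span F (M : Set (E →ₗ[F] E))) (hxs : IsSkew τ x) : x ∈ M := by
  haveI := finiteDimensional (F := F) (E := E)
  haveI : Finite F := Finite.of_injective _ (algebraMap F E).injective
  obtain ⟨l, hl, hls⟩ : ∃ l : F, l - σ l ≠ 0 ∧ σ (σ l) = l :=
    ⟨_, sub_ne_zero.mpr (Ne.symm hτ.ne.choose_spec), hτ.small_invol _⟩
  obtain ⟨m₁, hm₁, m₂, hm₂, rfl⟩ : ∃ m₁ ∈ M, ∃ m₂ ∈ M, x = m₁ + l • m₂ := by
    clear hxs
    induction hx using Submodule.span_induction with
    | mem y hy => exact ⟨y, hy, 0, zero_mem _, by rw [smul_zero, add_zero]⟩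
    | zero => exact ⟨0, zero_mem _, 0, zero_mem _, by rw [smul_zero, add_zero]⟩
    | add y z _ _ hy hz =>
      obtain ⟨a, ha, b, hb, rfl⟩ := hy
      obtain ⟨c, hc, d, hd, rfl⟩ := hz
      exact ⟨a + c, add_mem ha hc, b + d, add_mem hb hd, by rw [smul_add]; abel⟩
    | smul a y _ hy =>
      obtain ⟨b, hb, c, hc, rfl⟩ := hy
      obtain ⟨v, hv⟩ : ∃ v, v = (a - σ a) / (l - σ l) := ⟨_, rfl⟩
      have hvf : σ v = v := by
        rw [hv, map_div₀, map_sub, map_sub, hτ.small_invol, hls, ← neg_sub a, ← neg_sub l, neg_div_neg_eq]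
      have hvl : v * (l - σ l) = a - σ a := by rw [hv, div_mul_cancel₀ _ hl]
      have huf : σ (a - v * l) = a - v * l := by
        rw [map_sub, map_mul, hvf]; linear_combination hvl
      have hs : σ (l + σ l) = l + σ l := by rw [map_add, hls, add_comm]
      have hp : σ (l * σ l) = l * σ l := by rw [map_mul, hls, mul_comm]
      refine ⟨(a - v * l) • b - (v * (l * σ l)) • c,
        sub_mem (hM.smul_mem hτ huf hb) (hM.smul_mem hτ (by rw [map_mul, hvf, hp]) hc),
        v • b + ((a - v * l) + v * (l + σ l)) • c,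
        add_mem (hM.smul_mem hτ hvf hb) (hM.smul_mem hτ (by rw [map_add, huf, map_mul, hvf, hs]) hc), ?_⟩
      simp only [smul_add, smul_smul]
      module
  have h0 : m₂ = 0 := by
    refine LinearMap.ext fun a => (traceForm_nondegenerate F E).1 _ fun b => ?_
    rw [Algebra.traceForm_apply]
    have h1 := hxs a (τ b)
    have h2 := hM.skew _ hm₁ a (τ b)
    have h3 := hM.skew _ hm₂ a (τ b)
    simp only [LinearMap.add_apply, LinearMap.smul_apply, map_add, add_mul, mul_add, hτ.tau_smul, hτ.invol,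
      smul_mul_assoc, mul_smul_comm, map_smul, smul_eq_mul] at h1 h2 h3
    exact (mul_eq_zero.mp (show (l - σ l) * tr (m₂ a * b) = 0 by linear_combination h1 - h2 - σ l * h3)).resolve_left hl
  rwa [h0, smul_zero, add_zero]

theorem coef_skew [Fintype (E ≃ₐ[F] E)] {A : E →ₗ[F] E} (hA : IsSkew τ A) {a : (E ≃ₐ[F] E) → E} (ha : IsCoef A a)
    (g : E ≃ₐ[F] E) : g (a g⁻¹) = -τ (a g) := by
  haveI := finiteDimensional (F := F) (E := E)
  haveI : Finite F := Finite.of_injective _ (algebraMap F E).injective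
  classical
  rw [eq_neg_iff_add_eq_zero]
  refine gal_sum_eq_zero (w := fun g : E ≃ₐ[F] E => g (a g⁻¹) + τ (a g)) (fun y => ?_) g
  refine (traceForm_nondegenerate F E).2 _ fun x => ?_
  have h := hA x (τ y)
  have e1 : tr (A x * τ (τ y)) = tr (x * ∑ g : E ≃ₐ[F] E, g (a g⁻¹) * g y) := by
    rw [hτ.invol, ha x, Finset.sum_mul, Finset.mul_sum, map_sum, map_sum, ← Equiv.sum_comp (Equiv.inv (E ≃ₐ[F] E))]
    refine Finset.sum_congr rfl fun π _ => ?_
    rw [Equiv.inv_apply, ← tr_gal π, map_mul π, map_mul π, show π (π⁻¹ x) = x from π.apply_symm_apply x]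
    congr 1; ring
  have e2 : tr (x * τ (A (τ y))) = tr (x * ∑ g : E ≃ₐ[F] E, τ (a g) * g y) := by
    rw [ha, map_sum]
    congr 2
    refine Finset.sum_congr rfl fun π _ => ?_
    rw [map_mul, hτ.gal_comm, hτ.invol]
  rw [e1, e2, ← map_add, ← mul_add, ← Finset.sum_add_distrib] at h
  rw [Algebra.traceForm_apply]
  simp only [add_mul]
  exact h

variable (hr : Module.finrank F E = r) (hp : r.Prime) (hμ : μ * τ μ = 1) (hμ2 : ∀ c : F, algebraMap F E c ≠ μ * μ)

include hr hp hμ hμ2

/-- A non-zero component spreads over the whole pair. -/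
theorem pair_mem {M : AddSubgroup (E →ₗ[F] E)} (hM : IsCongr τ μ M) [Fintype (E ≃ₐ[F] E)] {A : E →ₗ[F] E} (hA : A ∈ M)
    {a : (E ≃ₐ[F] E) → E} (ha : IsCoef A a) {g : E ≃ₐ[F] E} (hg1 : g ≠ 1) (hg : a g ≠ 0) (t : E) :
    pairU τ hτ g t ∈ M := by
  classical
  haveI := finiteDimensional (F := F) (E := E)
  haveI : Finite F := Finite.of_injective _ (algebraMap F E).injective
  refine hM.mem_of_span hτ ?_ (isSkew_pairU hτ g t)
  by_contra hnot
  obtain ⟨ψ, hψ0, hψM⟩ := Submodule.exists_dual_map_eq_bot_of_notMem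
    (p := Submodule.span F (M : Set (E →ₗ[F] E))) (x := pairU τ hτ g t) hnot inferInstance
  have hψ : ∀ B ∈ M, ψ B = 0 := fun B hB => by
    have h : ψ B ∈ (Submodule.span F (M : Set (E →ₗ[F] E))).map ψ := ⟨B, Submodule.subset_span hB, rfl⟩
    rwa [hψM, Submodule.mem_bot] at h
  have hex : ∀ π : E ≃ₐ[F] E, ∃ b : E, ∀ c, tr (b * c) = ψ ((mulE c).comp (galMap π)) := fun π => by
    let l : Module.Dual F E :=
      { toFun := fun c => ψ ((mulE c).comp (galMap π))
        map_add' := fun c d => by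
          rw [← map_add]
          exact congrArg ψ (LinearMap.ext fun x => by simp [mulE_apply, add_mul])
        map_smul' := fun k c => by
          rw [RingHom.id_apply, ← map_smul]
          exact congrArg ψ (LinearMap.ext fun x => by simp [mulE_apply]) }
    refine ⟨(LinearMap.BilinForm.toDual (Algebra.traceForm F E) (traceForm_nondegenerate F E)).symm l, fun c => ?_⟩
    have h := LinearMap.BilinForm.apply_toDual_symm_apply (hB := traceForm_nondegenerate F E) l c
    rwa [Algebra.traceForm_apply] at h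
  choose b hb using hex
  have hψc : ∀ {B : E →ₗ[F] E} {c : (E ≃ₐ[F] E) → E}, IsCoef B c → ψ B = ∑ π, tr (b π * c π) := by
    intro B c hc
    have e : B = ∑ π, (mulE (c π)).comp (galMap π) := LinearMap.ext fun x => by
      rw [hc, LinearMap.sum_apply]; rfl
    rw [e, map_sum]
    exact Finset.sum_congr rfl fun π _ => (hb π _).symm
  have hcoefcd : ∀ {B : E →ₗ[F] E} {β : (E ≃ₐ[F] E) → E}, IsCoef B β → ∀ c d,
      IsCoef ((mulE c).comp (B.comp (mulE (F := F) d))) (fun π => c * β π * π d) := fun {B β} hβ c d x => by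
    rw [LinearMap.comp_apply, LinearMap.comp_apply, mulE_apply, mulE_apply, hβ, Finset.mul_sum]
    refine Finset.sum_congr rfl fun π _ => ?_
    rw [map_mul]; ring
  have hlocal : ∀ {B : E →ₗ[F] E} {β : (E ≃ₐ[F] E) → E}, B ∈ M → IsCoef B β →
      ∀ π, b π * β π - τ (β π) * π (b π⁻¹) = 0 := by
    intro B β hB hβ π
    have hpol : ∀ c d, ψ ((mulE c).comp (B.comp (mulE d)) + (mulE d).comp (B.comp (mulE c))) = 0 := by
      have h0 : ∀ c d, τ c = c → τ d = d →
          ψ ((mulE c).comp (B.comp (mulE d)) + (mulE d).comp (B.comp (mulE c))) = 0 := fun c d hc hd => by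
        refine hψ _ ?_
        have e : (mulE c).comp (B.comp (mulE d)) + (mulE d).comp (B.comp (mulE (F := F) c)) =
            (mulE (c + d)).comp (B.comp (mulE (c + d))) - (mulE c).comp (B.comp (mulE c)) -
              (mulE d).comp (B.comp (mulE d)) := LinearMap.ext fun x => by
          simp only [LinearMap.add_apply, LinearMap.sub_apply, LinearMap.comp_apply, mulE_apply, add_mul, map_add]
          ring
        rw [e]
        exact sub_mem (sub_mem (hM.congr _ (by rw [map_add, hc, hd]) _ hB) (hM.congr _ hc _ hB)) (hM.congr _ hd _ hB)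
      intro c d
      obtain ⟨l, hl, -⟩ := hτ.exists_ne
      obtain ⟨c₁, c₂, hc₁, hc₂, rfl⟩ := hτ.split hl c
      obtain ⟨d₁, d₂, hd₁, hd₂, rfl⟩ := hτ.split hl d
      have e : (mulE (c₁ + l • c₂)).comp (B.comp (mulE (d₁ + l • d₂))) +
          (mulE (d₁ + l • d₂)).comp (B.comp (mulE (F := F) (c₁ + l • c₂))) =
          ((mulE c₁).comp (B.comp (mulE d₁)) + (mulE d₁).comp (B.comp (mulE c₁))) +
          l • ((mulE c₁).comp (B.comp (mulE d₂)) + (mulE d₂).comp (B.comp (mulE c₁))) +
          l • ((mulE c₂).comp (B.comp (mulE d₁)) + (mulE d₁).comp (B.comp (mulE c₂))) +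
          (l * l) • ((mulE c₂).comp (B.comp (mulE d₂)) + (mulE d₂).comp (B.comp (mulE c₂))) :=
        LinearMap.ext fun x => by
          simp only [LinearMap.add_apply, LinearMap.smul_apply, LinearMap.comp_apply, mulE_apply, add_mul, smul_mul_assoc,
            map_add, map_smul, mul_add, mul_smul_comm, smul_add, smul_smul]
          abel
      rw [e, map_add, map_add, map_add, map_smul, map_smul, map_smul, h0 _ _ hc₁ hd₁, h0 _ _ hc₁ hd₂,
        h0 _ _ hc₂ hd₁, h0 _ _ hc₂ hd₂]
      simp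
    have hzero : ∀ c, ∑ π, (b π * β π + π (b π⁻¹ * β π⁻¹)) * π c = 0 := by
      intro c
      refine (traceForm_nondegenerate F E).2 _ fun d => ?_
      rw [Algebra.traceForm_apply, Finset.mul_sum, map_sum]
      have h := hpol c d
      rw [map_add, hψc (hcoefcd hβ c d), hψc (hcoefcd hβ d c), ← Equiv.sum_comp (Equiv.inv (E ≃ₐ[F] E))
        (fun π => tr (b π * (c * β π * π d))), ← Finset.sum_add_distrib] at h
      rw [← h]
      refine Finset.sum_congr rfl fun π _ => ?_
      rw [Equiv.inv_apply, ← tr_gal π (b π⁻¹ * (c * β π⁻¹ * π⁻¹ d)), ← map_add]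
      congr 1
      rw [map_mul π, map_mul π, map_mul π, map_mul π, show π (π⁻¹ d) = d from π.apply_symm_apply d]
      ring
    have h1 := gal_sum_eq_zero hzero π
    rw [map_mul, coef_skew hτ (hM.skew B hB) hβ π] at h1
    linear_combination h1
  have h1 := hlocal hA ha g
  have h2 := hlocal (hM.congr_mu A hA) (hcoefcd ha μ (τ μ)) g
  set ν := μ * g (τ μ) with hν
  have hν0 : ν - τ ν ≠ 0 := by
    intro h
    rw [sub_eq_zero, hν, map_mul, ← hτ.gal_comm, hτ.invol] at h
    have hμ0 : μ ≠ 0 := left_ne_zero_of_mul_eq_one hμ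
    have hg2 : g (μ * μ) = μ * μ := by
      have e1 : g μ * g (τ μ) = 1 := by rw [← map_mul, hμ, map_one]
      rw [map_mul]
      linear_combination (-(μ * g μ)) * h + (μ * μ) * e1 - (g μ * g μ) * hμ
    exact hg1 (gal_inj_at hr hp hμ2 (τ := 1) (by rw [hg2, AlgEquiv.one_apply]))
  have hb' : g (b g⁻¹) = 0 := by
    have h3 : (ν - τ ν) * (τ (a g) * g (b g⁻¹)) = 0 := by
      simp only [hν, map_mul, mul_assoc] at h2 ⊢
      linear_combination h2 - (μ * g (τ μ)) * h1
    exact (mul_eq_zero.mp ((mul_eq_zero.mp h3).resolve_left hν0)).resolve_left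
      ((EmbeddingLike.map_ne_zero_iff).mpr hg)
  have hbg : b g = 0 := by
    rw [hb', mul_zero, sub_zero] at h1
    exact (mul_eq_zero.mp h1).resolve_right hg
  have hbi : b g⁻¹ = 0 := g.map_eq_zero_iff.mp hb'
  refine hψ0 ?_
  rw [show pairU τ hτ g t = (mulE t).comp (galMap g) - (mulE (g⁻¹ (τ t))).comp (galMap g⁻¹) from LinearMap.ext fun x => by
    rw [pairU_apply, LinearMap.sub_apply, map_mul]; rfl, map_sub, ← hb, ← hb, hbg, hbi]
  simp

omit hμ hμ2 in
/-- Either every skew rank one map is there, or some pair is missing. -/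
theorem missing {M : AddSubgroup (E →ₗ[F] E)} (hM : IsCongr τ μ M) [Fintype (E ≃ₐ[F] E)] (hr2 : r ≠ 2)
    (hne : ∃ a : F, σ a = -a ∧ a • (Algebra.linearMap F E).comp (tr) ∉ M) :
    ∃ g : E ≃ₐ[F] E, g ≠ 1 ∧ ∃ t, pairU τ hτ g t ∉ M := by
  classical
  haveI := finiteDimensional (F := F) (E := E)
  haveI : Finite F := Finite.of_injective _ (algebraMap F E).injective
  obtain ⟨a, has, ha⟩ := hne
  by_contra hcon
  push Not at hcon
  refine ha ?_
  have hta : τ (algebraMap F E a) = -algebraMap F E a := by rw [hτ.base, has, map_neg]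
  have key : ∀ s : Finset (E ≃ₐ[F] E), (∀ g ∈ s, g⁻¹ ∈ s ∧ g ≠ 1) →
      ∑ g ∈ s, (mulE (algebraMap F E a)).comp (galMap g) ∈ M := by
    intro s
    induction s using Finset.strongInduction with
    | H s ih =>
      intro hs
      rcases s.eq_empty_or_nonempty with rfl | ⟨g, hg⟩
      · rw [Finset.sum_empty]; exact zero_mem M
      have hinv : g⁻¹ ≠ g := fun hinv => by
        have h2 : g ^ 2 = 1 := by
          rw [pow_two]
          conv_lhs => arg 1; rw [← hinv]
          exact inv_mul_cancel g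
        have h1 : g ^ r = 1 := by rw [← gal_card hr]; exact pow_card_eq_one'
        exact (hs g hg).2 (orderOf_eq_one_iff.mp (Nat.eq_one_of_dvd_coprimes
          ((Nat.coprime_primes Nat.prime_two hp).mpr (Ne.symm hr2))
          (orderOf_dvd_of_pow_eq_one h2) (orderOf_dvd_of_pow_eq_one h1)))
      have hg' : g⁻¹ ∈ s.erase g := Finset.mem_erase.mpr ⟨hinv, (hs g hg).1⟩
      rw [← Finset.add_sum_erase s _ hg, ← Finset.add_sum_erase _ _ hg', ← add_assoc]
      refine add_mem ?_ (ih _ ((Finset.erase_ssubset hg').trans (Finset.erase_ssubset hg)) fun π hπ => ?_)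
      · have e : (mulE (algebraMap F E a)).comp (galMap g) + (mulE (algebraMap F E a)).comp (galMap g⁻¹) =
            pairU τ hτ g (algebraMap F E a) := LinearMap.ext fun x => by
          rw [LinearMap.add_apply, pairU_apply, hta, map_mul, map_neg, AlgEquiv.commutes, neg_mul, sub_neg_eq_add]
          rfl
        rw [e]
        exact hcon g (hs g hg).2 _
      · simp only [Finset.mem_erase] at hπ ⊢
        obtain ⟨hπ1, hπ2, hπ3⟩ := hπ
        exact ⟨⟨fun e => hπ2 (inv_injective e), fun e => hπ1 (by rw [← inv_inv π, e]), (hs π hπ3).1⟩, (hs π hπ3).2⟩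
  have hall := key (Finset.univ.erase 1) fun g hg => by
    simpa using hg
  have e : a • (Algebra.linearMap F E).comp tr =
      mulE (algebraMap F E a) + ∑ g ∈ Finset.univ.erase 1, (mulE (algebraMap F E a)).comp (galMap g) := by
    refine LinearMap.ext fun x => ?_
    rw [LinearMap.smul_apply, LinearMap.comp_apply, Algebra.linearMap_apply, tr_sum,
      Finset.smul_sum, LinearMap.add_apply, LinearMap.sum_apply,
      ← Finset.add_sum_erase _ _ (Finset.mem_univ (1 : E ≃ₐ[F] E))]
    simp [Algebra.smul_def, mulE_apply, galMap_apply]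
  rw [e]
  exact add_mem (hM.scalar _ hta) hall

/-- The Lie idealiser of a proper congruence-stable group consists of multiplications. -/
theorem isMul_of_lie {M : AddSubgroup (E →ₗ[F] E)} (hM : IsCongr τ μ M) (hr2 : r ≠ 2)
    (hne : ∃ a : F, σ a = -a ∧ a • (Algebra.linearMap F E).comp (tr) ∉ M) {Z Z' : E →ₗ[F] E}
    (hZ : ∀ S ∈ M, Z.comp S + S.comp Z' ∈ M) : IsMul Z := by
  classical
  haveI : Finite (E ≃ₐ[F] E) := Finite.of_injective (fun g : E ≃ₐ[F] E => (g : E → E)) DFunLike.coe_injective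
  letI := Fintype.ofFinite (E ≃ₐ[F] E)
  obtain ⟨g₀, hg₀, t₀, ht₀⟩ := missing hτ hr hp hM hr2 hne
  obtain ⟨z, hz⟩ := exists_coeff hr Z
  obtain ⟨z', hz'⟩ := exists_coeff hr Z'
  let K : (E ≃ₐ[F] E) → Prop := fun g => g = 1 ∨ ∀ t, pairU τ hτ g t ∈ M
  have hKne : ¬ K g₀ := fun h => h.elim hg₀ fun h => ht₀ (h t₀)
  have hout : ∀ {B : E →ₗ[F] E} {c : (E ≃ₐ[F] E) → E}, B ∈ M → IsCoef B c → ∀ ρ, ¬ K ρ → c ρ = 0 := by
    intro B c hB hc ρ hρ
    by_contra h
    exact hρ (Or.inr fun t => pair_mem hτ hr hp hμ hμ2 hM hB hc (fun e => hρ (Or.inl e)) h t)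
  have hcomb : ∀ {S : E →ₗ[F] E} {s : (E ≃ₐ[F] E) → E}, S ∈ M → IsCoef S s → ∀ ρ, ¬ K ρ →
      ∑ π, z π * π (s (π⁻¹ * ρ)) + ∑ π, s π * π (z' (π⁻¹ * ρ)) = 0 := by
    intro S s hS hs ρ hρ
    refine hout (c := fun ρ => ∑ π, z π * π (s (π⁻¹ * ρ)) + ∑ π, s π * π (z' (π⁻¹ * ρ))) (hZ S hS) (fun x => ?_) ρ hρ
    rw [LinearMap.add_apply, coef_comp hz hs x, coef_comp hs hz' x, ← Finset.sum_add_distrib]
    simp only [add_mul]
  obtain ⟨l, hl, hls⟩ := hτ.exists_ne
  have hsupp : ∀ g, g ≠ 1 → z g = 0 := by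
    intro g hg
    obtain ⟨π, hπ, hρ⟩ : ∃ π, K π ∧ ¬ K (g * π) := by
      by_contra hcon
      push Not at hcon
      have hpow : ∀ n : ℕ, K (g ^ n) := fun n => by
        induction n with
        | zero => exact Or.inl (pow_zero g)
        | succ n ih => rw [pow_succ']; exact hcon _ ih
      have : g₀ ∈ Submonoid.powers g := mem_powers_iff_mem_zpowers.mpr (by rw [gal_zpowers hr hp hg]; trivial)
      obtain ⟨n, rfl⟩ := this
      exact hKne (hpow n)
    have two : ∀ (π₁ π₂ : E ≃ₐ[F] E), π₁ ≠ π₂ → ∀ u v : E, (∀ x, u * π₁ x + v * π₂ x = 0) → u = 0 := by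
      intro π₁ π₂ hne u v h
      have := gal_sum_eq_zero (w := Pi.single π₁ u + Pi.single π₂ v) (fun c => by
        simp only [Pi.add_apply, add_mul, Finset.sum_add_distrib]
        rw [Finset.sum_eq_single π₁ (fun π _ hπ => by rw [Pi.single_eq_of_ne hπ, zero_mul]) (by simp),
          Finset.sum_eq_single π₂ (fun π _ hπ => by rw [Pi.single_eq_of_ne hπ, zero_mul]) (by simp),
          Pi.single_eq_same, Pi.single_eq_same]
        exact h c) π₁
      simpa [Pi.single_eq_of_ne hne] using this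
    by_cases hπ1 : π = 1
    · subst hπ1
      rw [mul_one] at hρ
      refine two g 1 hg (z g) (z' g) fun x => ?_
      obtain ⟨a, b, ha, hb, rfl⟩ := hτ.split hl x
      have key : ∀ c, τ c = c → z g * g c + z' g * c = 0 := fun c hc => by
        have hk : τ (algebraMap F E (l - σ l) * c) = -(algebraMap F E (l - σ l) * c) := by
          rw [map_mul, hc, hτ.base, map_sub σ, hτ.small_invol, ← neg_sub l, map_neg, neg_mul]
        have h := hcomb (hM.scalar _ hk) (coef_mulE _) g hρ
        rw [Finset.sum_eq_single g (fun ρ _ hne => by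
            rw [Pi.single_eq_of_ne (fun e => hne (inv_mul_eq_one.mp e)), map_zero, mul_zero]) (by simp),
          Finset.sum_eq_single 1 (fun ρ _ hne => by rw [Pi.single_eq_of_ne hne, zero_mul]) (by simp),
          inv_mul_cancel, Pi.single_eq_same, inv_one, one_mul, AlgEquiv.one_apply, map_mul g, AlgEquiv.commutes] at h
        refine (mul_eq_zero.mp (show algebraMap F E (l - σ l) * (z g * g c + z' g * c) = 0 by
          linear_combination h)).resolve_left ((map_ne_zero _).mpr hl)
      simp only [AlgEquiv.one_apply, map_add, Algebra.smul_def, map_mul, AlgEquiv.commutes]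
      linear_combination key a ha + algebraMap F E l * key b hb
    · have hp' : ∀ t, pairU τ hτ π t ∈ M := hπ.resolve_left hπ1
      set ρ := g * π with hρdef
      have hcoef : ∀ t, IsCoef (pairU τ hτ π t) (Pi.single π t - Pi.single π⁻¹ (π⁻¹ (τ t))) := fun t x => by
        simp only [pairU_apply, Pi.sub_apply, sub_mul, Finset.sum_sub_distrib]
        rw [Finset.sum_eq_single π (fun π' _ h => by rw [Pi.single_eq_of_ne h, zero_mul]) (by simp),
          Finset.sum_eq_single π⁻¹ (fun π' _ h => by rw [Pi.single_eq_of_ne h, zero_mul]) (by simp), Pi.single_eq_same,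
          Pi.single_eq_same, map_mul]
      refine two g 1 hg (z g) (π (z' (π⁻¹ * ρ))) fun t => ?_
      have key : ∀ t, z g * g t + π (z' (π⁻¹ * ρ)) * t - (z (ρ * π) * ρ (τ t) + π⁻¹ (τ t) * π⁻¹ (z' (π * ρ))) = 0 := by
        intro t
        have h := hcomb (hp' t) (hcoef t) ρ hρ
        simp only [Pi.sub_apply, mul_sub, map_sub, sub_mul, Finset.sum_sub_distrib] at h
        rw [Finset.sum_eq_single g (fun π' _ hne => by
            rw [Pi.single_eq_of_ne (fun e => hne (mul_right_cancel (b := π) (by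
              rw [← hρdef]; exact (inv_mul_eq_iff_eq_mul.mp e).symm))), map_zero, mul_zero]) (by simp),
          Finset.sum_eq_single (ρ * π) (fun π' _ hne => by
            rw [Pi.single_eq_of_ne (fun e => hne (by
              rw [inv_mul_eq_iff_eq_mul] at e
              rw [e, inv_mul_cancel_right])), map_zero, mul_zero]) (by simp),
          Finset.sum_eq_single π (fun π' _ hne => by rw [Pi.single_eq_of_ne hne, zero_mul]) (by simp),
          Finset.sum_eq_single π⁻¹ (fun π' _ hne => by rw [Pi.single_eq_of_ne hne, zero_mul]) (by simp),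
          show g⁻¹ * ρ = π from inv_mul_cancel_left g π, show (ρ * π)⁻¹ * ρ = π⁻¹ by group,
          inv_inv, Pi.single_eq_same, Pi.single_eq_same, AlgEquiv.mul_apply, show π (π⁻¹ (τ t)) = τ t from π.apply_symm_apply _] at h
        linear_combination h
      have h1 := key t
      have h2 := key (l • t)
      simp only [Algebra.smul_def, map_mul, AlgEquiv.commutes, hτ.base] at h2
      refine (mul_eq_zero.mp (show (algebraMap F E l - algebraMap F E (σ l)) * (z g * g t + π (z' (π⁻¹ * ρ)) *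
        (1 : E ≃ₐ[F] E) t) = 0 by rw [AlgEquiv.one_apply]; linear_combination h2 - algebraMap F E (σ l) * h1)).resolve_left ?_
      rw [← map_sub]; exact (map_ne_zero _).mpr hl
  intro x
  have e : ∀ y, Z y = z 1 * y := fun y => by
    rw [hz, Finset.sum_eq_single 1 (fun g _ hg => by rw [hsupp g hg, zero_mul]) (by simp), AlgEquiv.one_apply]
  rw [e x, e 1, mul_one]

end Cfsg.Agent.Classical.FieldExt.Herm
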