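/-
Overgroups of a unitary group over an extension field of odd prime degree (elementary proof).
-/
import Cfsg.Agent.Lib.Classical.FieldExt.Herm.Congr

set_option autoImplicit false
set_option linter.style.haveILetI false
set_option linter.unusedSectionVars false

namespace Cfsg.Agent.Classical.FieldExt.Herm

open Cfsg.Agent.Classical.FieldExt

variable {F E V : Type*} [Field F] [Field E] [Algebra F E] [Finite E] [AddCommGroup V] [Module F V] [Module E V]
  [IsScalarTower F E V] [Finite V] {σ : F ≃+* F} {τ : E ≃+* E} {φ : V → V → E} {μ : E}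
  {X : Subgroup (V ≃ₗ[F] V)} {r : ℕ}

/-- The trace. -/
local notation "tr" => Algebra.trace F E

/-- `g` is a linear isometry over the big field. -/
def LinIso (φ : V → V → E) (g : V ≃ₗ[F] V) : Prop :=
  (∀ (c : E) x, g (c • x) = c • g x) ∧ ∀ x y, φ (g x) (g y) = φ x y

/-- The standing hypotheses on an overgroup. -/
structure Setup (σ : F ≃+* F) (τ : E ≃+* E) (φ : V → V → E) (μ : E) (X : Subgroup (V ≃ₗ[F] V)) (r : ℕ) : Prop where
  inv : IsExtInv σ τ
  herm : IsHerm τ φ
  deg : Module.finrank F E = r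
  prime : r.Prime
  three : 3 ≤ r
  mu_norm : μ * τ μ = 1
  mu_sq : ∀ c : F, algebraMap F E c ≠ μ * μ
  isom : ∀ g ∈ X, ∀ x y, Algebra.trace F E (φ (g x) (g y)) = Algebra.trace F E (φ x y)
  long : ∀ v, φ v v = 0 → ∀ s, τ s = -s → ∃ g ∈ X, ∀ x, g x = x + (s * φ x v) • v
  short : ∀ e u, φ e e = 0 → φ u e = 0 → ∃ g ∈ X, ∃ z, ∀ x, g x = x + φ x e • u + (z * φ x e - φ x u) • e
  homology : ∀ v, φ v v ≠ 0 → ∀ y, φ y v = 0 →
    ∃ g ∈ X, LinIso φ g ∧ g v = v ∧ ∃ c : E, (∀ a : F, algebraMap F E a ≠ c) ∧ g y = c • y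
  scale : ∀ e, e ≠ 0 → φ e e = 0 → ∃ g ∈ X, LinIso φ g ∧ g e = μ • e

/-- Preserving the line of `e`. -/
def NL (E : Type*) {F V : Type*} [Field F] [Field E] [AddCommGroup V] [Module F V] [Module E V] (e : V)
    (g : V ≃ₗ[F] V) : Prop :=
  ∀ c : E, ∃ d : E, g (c • e) = d • e

/-- Sending lines to lines. -/
def LineMap (E : Type*) {F V : Type*} [Field F] [Field E] [AddCommGroup V] [Module F V] [Module E V] (e : V)
    (g : V ≃ₗ[F] V) : Prop :=
  ∀ c : E, ∃ d : E, g (c • e) = d • g e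

/-- All transvections with centre on the line of `e`. -/
def Full (σ : F ≃+* F) (φ : V → V → E) (X : Subgroup (V ≃ₗ[F] V)) (e : V) : Prop :=
  ∀ a : F, σ a = -a → ∃ g ∈ X, ∀ x, g x = x + algebraMap F E (a * Algebra.trace F E (φ x e)) • e

omit [Finite V] in
theorem map_algebraMap (g : V ≃ₗ[F] V) (a : F) (x : V) : g (algebraMap F E a • x) = algebraMap F E a • g x := by
  rw [IsScalarTower.algebraMap_smul, map_smul, IsScalarTower.algebraMap_smul]

/-- A subspace of more than half dimension contains a nonzero fixed element. -/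
theorem exists_fixed_mem (hτ : IsExtInv σ τ) (W : Submodule F E) (h : Module.finrank F E < 2 * Module.finrank F W) :
    ∃ a ∈ W, a ≠ 0 ∧ τ a = a := by
  haveI := finiteDimensional (F := F) (E := E)
  haveI : Finite F := Finite.of_injective _ (algebraMap F E).injective
  let Wt : Submodule F E :=
    { carrier := {x | τ x ∈ W}
      add_mem' := fun {x y} hx hy => show τ (x + y) ∈ W by rw [map_add]; exact add_mem hx hy
      zero_mem' := show τ 0 ∈ W by rw [map_zero]; exact zero_mem W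
      smul_mem' := fun a x hx => show τ (a • x) ∈ W by rw [hτ.tau_smul]; exact W.smul_mem _ hx }
  have hc : Nat.card Wt = Nat.card W := Nat.card_congr (τ.toEquiv.subtypeEquiv fun x => Iff.rfl)
  rw [Module.natCard_eq_pow_finrank (K := F) (V := Wt), Module.natCard_eq_pow_finrank (K := F) (V := W)] at hc
  have hd : Module.finrank F Wt = Module.finrank F W := Nat.pow_right_injective Finite.one_lt_card hc
  have hne : W ⊓ Wt ≠ ⊥ := by
    intro e
    have h1 := Submodule.finrank_sup_add_finrank_inf_eq W Wt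
    have h2 := Submodule.finrank_le (W ⊔ Wt)
    rw [e, finrank_bot] at h1
    omega
  obtain ⟨x, ⟨hxW, hxt⟩, hx⟩ := Submodule.exists_mem_ne_zero_of_ne_bot hne
  by_cases h1 : x + τ x = 0
  · obtain ⟨l, hl, -⟩ := hτ.exists_ne
    refine ⟨l • x + σ l • τ x, add_mem (W.smul_mem _ hxW) (W.smul_mem _ hxt), fun h2 => hx ?_, by
      rw [map_add, hτ.tau_smul, hτ.tau_smul, hτ.small_invol, hτ.invol, add_comm]⟩
    rw [eq_neg_of_add_eq_zero_right h1, smul_neg, ← sub_eq_add_neg, ← sub_smul] at h2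
    exact (smul_eq_zero.mp h2).resolve_left hl
  · exact ⟨x + τ x, add_mem hxW hxt, h1, by rw [map_add, hτ.invol, add_comm]⟩

namespace Setup

variable (hS : Setup σ τ φ μ X r)

include hS

theorem exists_skew : ∃ z : F, z ≠ 0 ∧ σ z = -z := by
  obtain ⟨l, hl, hls⟩ := hS.inv.exists_ne
  exact ⟨_, hl, hls⟩

theorem skew_algebraMap {a : F} (ha : σ a = -a) : τ (algebraMap F E a) = -algebraMap F E a := by
  rw [hS.inv.base, ha, map_neg]

theorem long_linIso {v : V} (hv : φ v v = 0) {s : E} (hs : τ s = -s) {g : V ≃ₗ[F] V}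
    (hg : ∀ x, g x = x + (s * φ x v) • v) : LinIso φ g := by
  refine ⟨fun c x => by rw [hg, hg, hS.herm.smul_left, smul_add, smul_smul]; congr 2; ring, fun x y => ?_⟩
  rw [hg, hg]
  simp only [hS.herm.add_left, hS.herm.add_right, hS.herm.smul_left, hS.herm.smul_right, hv, map_mul, hs,
    ← hS.herm.symm y v]
  ring

theorem linIso_mul {g h : V ≃ₗ[F] V} (hg : LinIso φ g) (hh : LinIso φ h) : LinIso φ (g * h) :=
  ⟨fun c x => by rw [LinearEquiv.mul_apply, LinearEquiv.mul_apply, hh.1, hg.1],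
    fun x y => by rw [LinearEquiv.mul_apply, LinearEquiv.mul_apply, hg.2, hh.2]⟩

/-- The diagonal elements. -/
theorem exists_diag {e : V} (he : e ≠ 0) (hee : φ e e = 0) {c : E} (hc : τ c = c) (hc0 : c ≠ 0) :
    ∃ h ∈ X, LinIso φ h ∧ h e = c • e := by
  obtain ⟨e', he', hee'⟩ := hS.herm.exists_dual hS.inv he hee
  have hpe : φ e e' = 1 := by rw [hS.herm.symm e' e, he', map_one]
  obtain ⟨z, hz0, hzs⟩ := hS.exists_skew
  have hz : τ (algebraMap F E z) = -algebraMap F E z := hS.skew_algebraMap hzs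
  have hze : algebraMap F E z ≠ 0 := (map_ne_zero _).mpr hz0
  have w : ∀ s : E, s ≠ 0 → τ s = -s → ∃ h ∈ X, LinIso φ h ∧ h e = (-s⁻¹) • e' ∧ h e' = s • e := by
    intro s hs0 hs
    have hu : τ (-s⁻¹) = - -s⁻¹ := by rw [map_neg, map_inv₀, hs, inv_neg]
    obtain ⟨A, hA, hAx⟩ := hS.long e hee s hs
    obtain ⟨B, hB, hBx⟩ := hS.long e' hee' _ hu
    have hAl := hS.long_linIso hee hs hAx
    refine ⟨A * B * A, mul_mem (mul_mem hA hB) hA,
      hS.linIso_mul (hS.linIso_mul hAl (hS.long_linIso hee' hu hBx)) hAl, ?_, ?_⟩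
    · rw [LinearEquiv.mul_apply, LinearEquiv.mul_apply, hAx e, hee, mul_zero, zero_smul, add_zero, hBx, hpe, mul_one,
        hAx, hS.herm.add_left, hS.herm.smul_left, hee, he', mul_one, zero_add, mul_neg, mul_inv_cancel₀ hs0]
      module
    · rw [LinearEquiv.mul_apply, LinearEquiv.mul_apply, hAx e', he', mul_one, hBx]
      simp only [hS.herm.add_left, hS.herm.smul_left, hee', hpe, mul_one, zero_add, neg_mul, inv_mul_cancel₀ hs0,
        neg_smul, one_smul, add_neg_cancel_comm]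
      rw [hAx, hS.herm.smul_left, hee, mul_zero, mul_zero, zero_smul, add_zero]
  obtain ⟨h₁, h₁X, h₁l, -, h₁e⟩ := w (-(c * algebraMap F E z)) (neg_ne_zero.mpr (mul_ne_zero hc0 hze))
    (by rw [map_neg, map_mul, hc, hz, mul_neg])
  obtain ⟨h₂, h₂X, h₂l, h₂e, -⟩ := w _ hze hz
  refine ⟨h₁ * h₂, mul_mem h₁X h₂X, hS.linIso_mul h₁l h₂l, ?_⟩
  rw [LinearEquiv.mul_apply, h₂e, h₁l.1, h₁e, smul_smul]
  congr 1
  field_simp

/-- The long root part of `X` at `e`. -/
def Mlong {e : V} (hee : φ e e = 0) : AddSubgroup (E →ₗ[F] E) where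
  carrier := {S | ∃ g ∈ X, ∀ x, g x = x + S (φ x e) • e}
  zero_mem' := ⟨1, one_mem X, fun x => by rw [LinearMap.zero_apply, zero_smul, add_zero]; rfl⟩
  add_mem' := by
    rintro S S' ⟨g, hg, hgx⟩ ⟨g', hg', hgx'⟩
    refine ⟨g * g', mul_mem hg hg', fun x => ?_⟩
    rw [LinearEquiv.mul_apply, hgx', hgx, hS.herm.add_left, hS.herm.smul_left, hee, mul_zero, add_zero,
      LinearMap.add_apply, add_smul]
    abel
  neg_mem' := by
    rintro S ⟨g, hg, hgx⟩
    refine ⟨g⁻¹, inv_mem hg, fun x => g.injective ?_⟩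
    rw [show g (g⁻¹ x) = x from g.apply_symm_apply x, hgx, hS.herm.add_left, hS.herm.smul_left, hee, mul_zero,
      add_zero, LinearMap.neg_apply, neg_smul]
    abel

theorem full_of_mem {e : V} (hee : φ e e = 0)
    (h : ∀ a : F, σ a = -a → a • (Algebra.linearMap F E).comp tr ∈ hS.Mlong hee) : Full σ φ X e := fun a ha => by
  obtain ⟨g, hg, hgx⟩ := h a ha
  exact ⟨g, hg, fun x => by rw [hgx, LinearMap.smul_apply, LinearMap.comp_apply, Algebra.linearMap_apply,
    Algebra.smul_def, map_mul]⟩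

theorem mem_conj {e : V} (hee : φ e e = 0) {h : V ≃ₗ[F] V} (hh : h ∈ X) (hl : LinIso φ h) {c : E}
    (hc : h e = c • e) {S : E →ₗ[F] E} (hSM : S ∈ hS.Mlong hee) :
    (mulE c).comp (S.comp (mulE (τ c))) ∈ hS.Mlong hee := by
  obtain ⟨g, hg, hgx⟩ := hSM
  refine ⟨h * g * h⁻¹, mul_mem (mul_mem hh hg) (inv_mem hh), fun x => ?_⟩
  rw [LinearEquiv.mul_apply, LinearEquiv.mul_apply, hgx, map_add, show h (h⁻¹ x) = x from h.apply_symm_apply x, hl.1,
    ← hl.2 (h⁻¹ x) e, show h (h⁻¹ x) = x from h.apply_symm_apply x, hc, hS.herm.smul_right, smul_smul,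
    LinearMap.comp_apply, LinearMap.comp_apply, mulE_apply, mulE_apply, mul_comm c]

theorem isCongr {e : V} (he : e ≠ 0) (hee : φ e e = 0) : IsCongr τ μ (hS.Mlong hee) := by
  obtain ⟨e', he', -⟩ := hS.herm.exists_dual hS.inv he hee
  refine ⟨fun S ⟨g, hg, hgx⟩ a b => ?_, fun c hc => ?_, fun c hc A hA => ?_, fun A hA => ?_⟩
  · have h := hS.isom g hg (a • e') (b • e')
    have hpe : φ e e' = 1 := by rw [hS.herm.symm e' e, he', map_one]
    rw [hgx, hgx] at h
    simp only [hS.herm.add_left, hS.herm.add_right, hS.herm.smul_left, hS.herm.smul_right, he', hee, hpe, mul_one,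
      mul_zero, add_zero, map_add] at h
    linear_combination h
  · obtain ⟨g, hg, hgx⟩ := hS.long e hee c hc
    exact ⟨g, hg, fun x => by rw [hgx, mulE_apply]⟩
  · by_cases hc0 : c = 0
    · have e0 : (mulE (F := F) c).comp (A.comp (mulE c)) = 0 := LinearMap.ext fun x => by simp [mulE_apply, hc0]
      rw [e0]
      exact zero_mem _
    obtain ⟨h, hh, hl, hhe⟩ := hS.exists_diag he hee hc hc0
    have := hS.mem_conj hee hh hl hhe hA
    rwa [hc] at this
  · obtain ⟨h, hh, hl, hhe⟩ := hS.scale e he hee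
    exact hS.mem_conj hee hh hl hhe hA

section Point

variable {e e' : V} (hee : φ e e = 0) (he' : φ e' e = 1)

include hee he'

theorem e_ne : e ≠ 0 := fun h => one_ne_zero (α := E) (by rw [← he', h, hS.herm.zero_right])

theorem inv_nl {g : V ≃ₗ[F] V} (hg : NL E e g) : NL E e g⁻¹ := by
  choose d hd using hg
  have hinj : Function.Injective d := fun a b h => smul_left_injective E (hS.e_ne hee he')
    (g.injective (show g (a • e) = g (b • e) by rw [hd, hd, h]))
  intro c
  obtain ⟨c', hc'⟩ := Finite.surjective_of_injective hinj c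
  exact ⟨c', g.injective (by rw [show g (g⁻¹ (c • e)) = c • e from g.apply_symm_apply _, hd, hc'])⟩

theorem line_maps {g : V ≃ₗ[F] V} (hg : g ∈ X) (hgl : NL E e g) :
    ∃ L P : E →ₗ[F] E, (∀ c : E, g (c • e) = L c • e) ∧ ∀ x, φ (g x) e = P (φ x e) := by
  haveI := finiteDimensional (F := F) (E := E)
  haveI : Finite F := Finite.of_injective _ (algebraMap F E).injective
  have hlin : ∀ (a : F) x y, φ (a • x) y = a • φ x y := fun a x y => by
    rw [← IsScalarTower.algebraMap_smul E a x, hS.herm.smul_left, ← Algebra.smul_def]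
  let L : E →ₗ[F] E :=
    { toFun := fun c => φ (g (c • e)) e'
      map_add' := fun a b => by rw [add_smul, map_add, hS.herm.add_left]
      map_smul' := fun a c => by rw [smul_assoc, map_smul, hlin, RingHom.id_apply] }
  let P : E →ₗ[F] E :=
    { toFun := fun c => φ (g (c • e')) e
      map_add' := fun a b => by rw [add_smul, map_add, hS.herm.add_left]
      map_smul' := fun a c => by rw [smul_assoc, map_smul, hlin, RingHom.id_apply] }
  have hperp : ∀ v, φ v e = 0 → φ (g v) e = 0 := fun v hv => by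
    refine (traceForm_nondegenerate F E).2 _ fun d => ?_
    obtain ⟨c, hc⟩ := hS.inv_nl hee he' hgl (τ.symm d)
    have h := hS.isom g hg v (c • e)
    rw [← hc, show g (g⁻¹ (τ.symm d • e)) = τ.symm d • e from g.apply_symm_apply _, hc, hS.herm.smul_right,
      hS.herm.smul_right, hv, mul_zero, RingEquiv.apply_symm_apply] at h
    rw [Algebra.traceForm_apply, h, map_zero]
  refine ⟨L, P, fun c => ?_, fun x => ?_⟩
  · obtain ⟨d, hd⟩ := hgl c
    rw [show L c = φ (g (c • e)) e' from rfl, hd, hS.herm.smul_left, hS.herm.symm e' e, he', map_one, mul_one]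
  · have h := hperp _ (hS.herm.decomp he' x)
    rwa [map_sub, hS.herm.sub_left, sub_eq_zero] at h

variable (hne : ∃ a : F, σ a = -a ∧ a • (Algebra.linearMap F E).comp (Algebra.trace F E) ∉ hS.Mlong hee)

include hne

/-- The stabiliser of the line acts semilinearly on it. -/
theorem semilin {g : V ≃ₗ[F] V} (hg : g ∈ X) (hgl : NL E e g) (hge : g e = e) :
    ∃ η : E ≃ₐ[F] E, ∀ c : E, g (c • e) = η c • e := by
  have he := hS.e_ne hee he'
  have hM := hS.isCongr he hee
  obtain ⟨L, P, hL, hP⟩ := hS.line_maps hee he' hg hgl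
  obtain ⟨L', P', hL', hP'⟩ := hS.line_maps hee he' (inv_mem hg) (hS.inv_nl hee he' hgl)
  have hLL : ∀ c, L (L' c) = c := fun c => smul_left_injective E he (by
    show L (L' c) • e = c • e
    rw [← hL, ← hL']; exact g.apply_symm_apply _)
  have hLL' : ∀ c, L' (L c) = c := fun c => smul_left_injective E he (by
    show L' (L c) • e = c • e
    rw [← hL', ← hL]; exact g.symm_apply_apply _)
  have hPP : ∀ c, P (P' c) = c := fun c => by
    have h := hP (g⁻¹ (c • e'))
    rwa [hP', show g (g⁻¹ (c • e')) = c • e' from g.apply_symm_apply _, hS.herm.smul_left, he', mul_one,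
      eq_comm] at h
  have hPP' : ∀ c, P' (P c) = c := fun c => by
    have h := hP' (g (c • e'))
    rwa [hP, show g⁻¹ (g (c • e')) = c • e' from g.symm_apply_apply _, hS.herm.smul_left, he', mul_one,
      eq_comm] at h
  have conj : ∀ S ∈ hS.Mlong hee, L.comp (S.comp P') ∈ hS.Mlong hee ∧ L'.comp (S.comp P) ∈ hS.Mlong hee := by
    rintro S ⟨t, ht, htx⟩
    refine ⟨⟨g * t * g⁻¹, mul_mem (mul_mem hg ht) (inv_mem hg), fun x => ?_⟩,
      ⟨g⁻¹ * t * g, mul_mem (mul_mem (inv_mem hg) ht) hg, fun x => ?_⟩⟩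
    · rw [LinearEquiv.mul_apply, LinearEquiv.mul_apply, htx, map_add, show g (g⁻¹ x) = x from g.apply_symm_apply x,
        hL, hP']
      rfl
    · rw [LinearEquiv.mul_apply, LinearEquiv.mul_apply, htx, map_add, show g⁻¹ (g x) = x from g.symm_apply_apply x,
        hL', hP]
      rfl
  have hL1 : L 1 = 1 := smul_left_injective E he (by show L 1 • e = (1 : E) • e; rw [← hL, one_smul, hge])
  have hL'1 : L' 1 = 1 := by conv_lhs => rw [← hL1, hLL']
  have hfix : ∀ c, τ c = c → ∀ x, L (c * x) = L c * L x := by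
    intro c hc x
    have h : IsMul (L.comp ((mulE c).comp L')) := by
      refine isMul_of_lie hS.inv hS.deg hS.prime hS.mu_norm hS.mu_sq hM (by have := hS.three; omega) hne
        (Z' := P.comp ((mulE c).comp P')) fun S hSM => ?_
      obtain ⟨S₀, hS₀⟩ : ∃ S₀, S₀ = L'.comp (S.comp P) := ⟨_, rfl⟩
      have h0 : S₀ ∈ hS.Mlong hee := hS₀ ▸ (conj S hSM).2
      have hpol : (mulE c).comp S₀ + S₀.comp (mulE c) ∈ hS.Mlong hee := by
        have h := sub_mem (sub_mem (hM.congr (c + 1) (by rw [map_add, hc, map_one]) S₀ h0) (hM.congr c hc S₀ h0)) h0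
        have e1 : (mulE c).comp S₀ + S₀.comp (mulE (F := F) c) =
            (mulE (c + 1)).comp (S₀.comp (mulE (c + 1))) - (mulE c).comp (S₀.comp (mulE c)) - S₀ :=
          LinearMap.ext fun x => by
            simp only [LinearMap.add_apply, LinearMap.sub_apply, LinearMap.comp_apply, mulE_apply, add_mul, one_mul,
              map_add, mul_add]
            ring
        rw [e1]; exact h
      have e2 : (L.comp ((mulE c).comp L')).comp S + S.comp (P.comp ((mulE c).comp P')) =
          L.comp (((mulE c).comp S₀ + S₀.comp (mulE c)).comp P') := by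
        refine LinearMap.ext fun x => ?_
        simp only [hS₀, LinearMap.add_apply, LinearMap.comp_apply, map_add, hPP, hLL]
      rw [e2]; exact (conj _ hpol).1
    have h1 := h (L x)
    simpa only [LinearMap.comp_apply, mulE_apply, hLL', hL'1, mul_one] using h1
  have hmul : ∀ c x, L (c * x) = L c * L x := fun c x => by
    obtain ⟨l, hl, -⟩ := hS.inv.exists_ne
    obtain ⟨a, b, ha, hb, rfl⟩ := hS.inv.split hl c
    rw [add_mul, smul_mul_assoc, map_add, map_add, map_smul, map_smul, hfix a ha, hfix b hb, add_mul, smul_mul_assoc]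
  let η : E →ₐ[F] E := AlgHom.ofLinearMap L hL1 hmul
  exact ⟨AlgEquiv.ofBijective η (Finite.injective_iff_bijective.mp η.injective), hL⟩

theorem fixed_line {g : V ≃ₗ[F] V} (hg : g ∈ X) (hgl : NL E e g) (hge : g e = e) {c : E}
    (hc : ∀ a : F, algebraMap F E a ≠ c) (hgc : g (c • e) = c • e) (d : E) : g (d • e) = d • e := by
  obtain ⟨η, hη⟩ := hS.semilin hee he' hne hg hgl hge
  have h1 : η = 1 := gal_inj_at hS.deg hS.prime hc (τ := 1)
    (smul_left_injective E (hS.e_ne hee he') (by show η c • e = c • e; rw [← hη, hgc]))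
  rw [hη, h1, AlgEquiv.one_apply]

omit hne in
theorem fixed_point {x : V}
    (hfix : ∀ t ∈ X, (∀ d : E, t (d • e) = d • e) → t x = x) : x = φ x e' • e := by
  obtain ⟨z, hz0, hzs⟩ := hS.exists_skew
  obtain ⟨t, ht, htx⟩ := hS.long e hee _ (hS.skew_algebraMap hzs)
  have h0 := hfix t ht fun d => by rw [htx, hS.herm.smul_left, hee, mul_zero, mul_zero, zero_smul, add_zero]
  rw [htx, add_eq_left] at h0
  have hxe : φ x e = 0 := (mul_eq_zero.mp ((smul_eq_zero.mp h0).resolve_right (hS.e_ne hee he'))).resolve_left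
    ((map_ne_zero _).mpr hz0)
  refine hS.herm.eq_smul_of_perp he' fun u hu => ?_
  obtain ⟨t, ht, w, htx⟩ := hS.short e u hee hu
  have h1 := hfix t ht fun d => by
    rw [htx, hS.herm.smul_left, hS.herm.smul_left, hee, hS.herm.comm_zero hu, mul_zero, mul_zero, sub_zero, zero_smul,
      zero_smul, add_zero, add_zero]
  rw [htx, hxe, zero_smul, add_zero, mul_zero, zero_sub, add_eq_left] at h1
  exact neg_eq_zero.mp ((smul_eq_zero.mp h1).resolve_right (hS.e_ne hee he'))

/-- No member fixing `e` breaks its line. -/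
theorem no_breaker {g : V ≃ₗ[F] V} (hg : g ∈ X) (hge : g e = e) : NL E e g := by
  classical
  by_contra hgn
  haveI := finiteDimensional (F := F) (E := E)
  haveI : Finite F := Finite.of_injective _ (algebraMap F E).injective
  haveI : Finite (Submodule F E) := Finite.of_injective (fun W : Submodule F E => (W : Set E)) SetLike.coe_injective
  have he := hS.e_ne hee he'
  let 𝒵 : Set (Submodule F E) :=
    {W | (1 : E) ∈ W ∧ ∃ γ ∈ X, (∀ c ∈ W, γ (c • e) = c • e) ∧ ¬ NL E e γ}
  obtain ⟨Z, hZmax⟩ := (Set.toFinite 𝒵).exists_maximal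
    ⟨Submodule.span F {(1 : E)}, Submodule.mem_span_singleton_self 1, g, hg, fun c hc => by
      obtain ⟨a, rfl⟩ := Submodule.mem_span_singleton.mp hc
      rw [smul_assoc, map_smul, one_smul, hge], hgn⟩
  obtain ⟨h1Z, γ, hγ, hγZ, hγn⟩ := hZmax.prop
  have hZF : ∀ a : F, algebraMap F E a ∈ Z := fun a => by
    rw [Algebra.algebraMap_eq_smul_one]; exact Z.smul_mem a h1Z
  have fe : ∀ {h : V ≃ₗ[F] V}, (∀ c ∈ Z, h (c • e) = c • e) → h e = e := fun {h} hh => by
    have := hh 1 h1Z; rwa [one_smul] at this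
  have hmax : ∀ h ∈ X, (∀ c ∈ Z, h (c • e) = c • e) → ∀ c, c ∉ Z → h (c • e) = c • e → NL E e h := by
    intro h hh hhZ c hc hhc
    by_contra hn
    refine hc (hZmax.le_of_ge (y := Z ⊔ Submodule.span F {c}) ⟨Submodule.mem_sup_left h1Z, h, hh, fun x hx => ?_, hn⟩
      le_sup_left (Submodule.mem_sup_right (Submodule.mem_span_singleton_self c)))
    obtain ⟨y, hy, z, hz, rfl⟩ := Submodule.mem_sup.mp hx
    obtain ⟨a, rfl⟩ := Submodule.mem_span_singleton.mp hz
    rw [add_smul, map_add, hhZ y hy, smul_assoc a c e, map_smul, hhc]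
  have back : ∀ h ∈ X, (∀ c ∈ Z, h (c • e) = c • e) → ∀ c, c ∉ Z → (∃ d : E, h (c • e) = d • e) → NL E e h := by
    rintro h hh hhZ c hc ⟨d, hd⟩ x
    refine ⟨φ (h (x • e)) e', hS.fixed_point hee he' fun t ht htfix => ?_⟩
    obtain ⟨k, hk⟩ : ∃ k, k = h⁻¹ * t * h := ⟨_, rfl⟩
    have hkX : k ∈ X := hk ▸ mul_mem (mul_mem (inv_mem hh) ht) hh
    have hka : ∀ y, k y = h⁻¹ (t (h y)) := fun y => by rw [hk]; rfl
    have hkZ : ∀ y ∈ Z, k (y • e) = y • e := fun y hy => by
      rw [hka, hhZ y hy, htfix]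
      exact h.injective (by rw [show h (h⁻¹ (y • e)) = y • e from h.apply_symm_apply _, hhZ y hy])
    have hkc : k (c • e) = c • e := by rw [hka, hd, htfix, ← hd]; exact h.symm_apply_apply _
    have hkx := hS.fixed_line hee he' hne hkX (hmax k hkX hkZ c hc hkc) (fe hkZ)
      (fun a ha => hc (by rw [← ha]; exact hZF a)) hkc x
    rw [hka] at hkx
    have := congrArg h hkx
    rwa [show h (h⁻¹ (t (h (x • e)))) = t (h (x • e)) from h.apply_symm_apply _] at this
  have trans : ∀ c, c ∉ Z → ∀ z ∈ Z,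
      (∃ t ∈ X, (∀ d : E, t (d • e) = d • e) ∧ t (γ (c • e)) = γ (c • e) + z • e) →
      ∃ η : E ≃ₐ[F] E, (∀ y ∈ Z, η y = y) ∧ η c = c + z := by
    rintro c hc z hz ⟨t, ht, htfix, htw⟩
    obtain ⟨k, hk⟩ : ∃ k, k = γ⁻¹ * t * γ := ⟨_, rfl⟩
    have hkX : k ∈ X := hk ▸ mul_mem (mul_mem (inv_mem hγ) ht) hγ
    have hka : ∀ y, k y = γ⁻¹ (t (γ y)) := fun y => by rw [hk]; rfl
    have hγi : ∀ y ∈ Z, γ⁻¹ (y • e) = y • e := fun y hy => γ.injective (by
      rw [show γ (γ⁻¹ (y • e)) = y • e from γ.apply_symm_apply _, hγZ y hy])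
    have hkZ : ∀ y ∈ Z, k (y • e) = y • e := fun y hy => by rw [hka, hγZ y hy, htfix, hγi y hy]
    have hkc : k (c • e) = (c + z) • e := by
      rw [hka, htw, map_add, hγi z hz, show γ⁻¹ (γ (c • e)) = c • e from γ.symm_apply_apply _, add_smul]
    obtain ⟨η, hη⟩ := hS.semilin hee he' hne hkX (back k hkX hkZ c hc ⟨_, hkc⟩) (fe hkZ)
    exact ⟨η, fun y hy => smul_left_injective E he (show η y • e = y • e by rw [← hη, hkZ y hy]),
      smul_left_injective E he (show η c • e = (c + z) • e by rw [← hη, hkc])⟩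
  have trivOn : ∀ (η : E ≃ₐ[F] E), (∀ y ∈ Z, η y = y) → ∀ θ ∈ Z, (∀ a : F, algebraMap F E a ≠ θ) → η = 1 :=
    fun η hη θ hθ hθF => gal_inj_at hS.deg hS.prime hθF (τ := 1) (by rw [hη θ hθ, AlgEquiv.one_apply])
  have hpow : ∀ (η : E ≃ₐ[F] E) (c z : E), η c = c + z → η z = z → ∀ j : ℕ, (η ^ j) c = c + j • z := by
    intro η c z h hz j
    induction j with
    | zero => simp
    | succ j ih => rw [pow_succ', AlgEquiv.mul_apply, ih, map_add, h, map_nsmul, hz, succ_nsmul]; abel
  let D : E →ₗ[F] E :=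
    { toFun := fun c => φ (γ (c • e)) e
      map_add' := fun a b => by rw [add_smul, map_add, hS.herm.add_left]
      map_smul' := fun a c => by
        rw [smul_assoc, map_smul, ← IsScalarTower.algebraMap_smul E a (γ (c • e)), hS.herm.smul_left,
          ← Algebra.smul_def, RingHom.id_apply] }
  have hD : ∀ c, D c = φ (γ (c • e)) e := fun c => rfl
  by_cases hA : ∃ c, c ∉ Z ∧ D c = 0
  · obtain ⟨c, hc, hc0⟩ := hA
    obtain ⟨u, hu, huw⟩ : ∃ u, φ u e = 0 ∧ φ (γ (c • e)) u ≠ 0 := by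
      by_contra hcon
      push Not at hcon
      exact hγn (back γ hγ hγZ c hc ⟨_, hS.herm.eq_smul_of_perp he' hcon⟩)
    have get : ∀ z ∈ Z, ∃ η : E ≃ₐ[F] E, (∀ y ∈ Z, η y = y) ∧ η c = c + z := fun z hz => by
      refine trans c hc z hz ?_
      have hbu : φ (τ (-z / φ (γ (c • e)) u) • u) e = 0 := by rw [hS.herm.smul_left, hu, mul_zero]
      obtain ⟨t, ht, w, htx⟩ := hS.short e _ hee hbu
      refine ⟨t, ht, fun d => ?_, ?_⟩
      · rw [htx, hS.herm.smul_left, hS.herm.smul_left, hee, hS.herm.comm_zero hbu, mul_zero, mul_zero, sub_zero,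
          zero_smul, zero_smul, add_zero, add_zero]
      · rw [htx, ← hD, hc0, zero_smul, add_zero, mul_zero, zero_sub, hS.herm.smul_right, hS.inv.invol,
          div_mul_cancel₀ _ huw, neg_neg]
    obtain ⟨η₁, hη₁Z, hη₁⟩ := get 1 h1Z
    have hne1 : η₁ ≠ 1 := fun h => by
      rw [h, AlgEquiv.one_apply, left_eq_add] at hη₁
      exact one_ne_zero hη₁
    obtain ⟨l, hl⟩ := hS.inv.ne
    obtain ⟨η, hηZ, hη⟩ := get (algebraMap F E l) (hZF l)
    obtain ⟨j, rfl⟩ : η ∈ Submonoid.powers η₁ :=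
      mem_powers_iff_mem_zpowers.mpr (by rw [gal_zpowers hS.deg hS.prime hne1]; trivial)
    change (η₁ ^ j) c = c + algebraMap F E l at hη
    rw [hpow η₁ c 1 hη₁ (map_one η₁), add_right_inj, nsmul_one] at hη
    have hlj : l = (j : F) := (algebraMap F E).injective (by rw [map_natCast]; exact hη.symm)
    exact hl (by rw [hlj, map_natCast])
  push Not at hA
  have hDZ : ∀ c ∈ Z, D c = 0 := fun c hc => by rw [hD, hγZ c hc, hS.herm.smul_left, hee, mul_zero]
  have hker : LinearMap.ker D = Z := by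
    ext c
    exact ⟨fun h => by_contra fun hc => hA c hc (LinearMap.mem_ker.mp h), fun h => LinearMap.mem_ker.mpr (hDZ c h)⟩
  have hdim := LinearMap.finrank_range_add_finrank_ker D
  rw [hker, hS.deg] at hdim
  obtain ⟨ζ, hζ0, hζs⟩ := hS.exists_skew
  have getb : ∀ c (a z : E), a ≠ 0 → τ a = a → z ∈ Z → c ∉ Z → D c = a * z →
      ∃ η : E ≃ₐ[F] E, (∀ y ∈ Z, η y = y) ∧ η c = c + ζ • z := by
    intro c a z ha0 ha hz hc hDc
    refine trans c hc _ (Z.smul_mem ζ hz) ?_
    have hs : τ (algebraMap F E ζ / a) = -(algebraMap F E ζ / a) := by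
      rw [map_div₀, hS.skew_algebraMap hζs, ha, neg_div]
    obtain ⟨t, ht, htx⟩ := hS.long e hee _ hs
    refine ⟨t, ht, fun d => by rw [htx, hS.herm.smul_left, hee, mul_zero, mul_zero, zero_smul, add_zero], ?_⟩
    rw [htx, ← hD, hDc, ← mul_assoc, div_mul_cancel₀ _ ha0, ← Algebra.smul_def]
  by_cases hZ : ∃ θ ∈ Z, ∀ a : F, algebraMap F E a ≠ θ
  · obtain ⟨θ, hθ, hθF⟩ := hZ
    obtain ⟨c, a, z, ha0, ha, hz, hDc, hz0⟩ :
        ∃ c a z : E, a ≠ 0 ∧ τ a = a ∧ z ∈ Z ∧ D c = a * z ∧ z ≠ 0 := by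
      rcases Nat.lt_or_ge (2 * Module.finrank F Z) r with hlt | hge
      · obtain ⟨a, ⟨c, hc⟩, ha0, ha⟩ := exists_fixed_mem hS.inv (LinearMap.range D) (by rw [hS.deg]; omega)
        exact ⟨c, a, 1, ha0, ha, h1Z, by rw [hc, mul_one], one_ne_zero⟩
      obtain ⟨c, hc⟩ : ∃ c, c ∉ Z := by
        by_contra hcon
        push Not at hcon
        exact hγn fun c => ⟨c, hγZ c (hcon c)⟩
      have hy := hA c hc
      have hodd : Odd r := hS.prime.odd_of_ne_two (by have := hS.three; omega)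
      have hcard : Module.finrank F (Z.comap (mulE (F := F) (D c))) = Module.finrank F Z := by
        have h := Nat.card_congr (α := Z.comap (mulE (F := F) (D c))) (β := Z)
          ((Equiv.mulLeft₀ (D c) hy).subtypeEquiv fun x => Iff.rfl)
        rw [Module.natCard_eq_pow_finrank (K := F) (V := Z.comap (mulE (F := F) (D c))),
          Module.natCard_eq_pow_finrank (K := F) (V := Z)] at h
        exact Nat.pow_right_injective Finite.one_lt_card h
      obtain ⟨k, hk⟩ := hodd
      obtain ⟨a, haW, ha0, ha⟩ := exists_fixed_mem hS.inv (Z.comap (mulE (F := F) (D c))) (by rw [hS.deg, hcard]; omega)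
      exact ⟨c, a⁻¹, D c * a, inv_ne_zero ha0, by rw [map_inv₀, ha], haW,
        by rw [mul_comm (D c), ← mul_assoc, inv_mul_cancel₀ ha0, one_mul], mul_ne_zero hy ha0⟩
    have hc : c ∉ Z := fun h => mul_ne_zero ha0 hz0 (by rw [← hDc, hDZ c h])
    obtain ⟨η, hηZ, hη⟩ := getb c a z ha0 ha hz hc hDc
    rw [trivOn η hηZ θ hθ hθF, AlgEquiv.one_apply, left_eq_add, smul_eq_zero] at hη
    exact hη.elim hζ0 hz0
  push Not at hZ
  have hZ1 : Z = Submodule.span F {(1 : E)} := le_antisymm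
    (fun y hy => by
      obtain ⟨a, rfl⟩ := hZ y hy
      rw [Algebra.algebraMap_eq_smul_one]
      exact Submodule.smul_mem _ _ (Submodule.mem_span_singleton_self _))
    ((Submodule.span_singleton_le_iff_mem _ _).mpr h1Z)
  rw [hZ1, finrank_span_singleton one_ne_zero] at hdim
  have hle : LinearMap.range D ≤ LinearMap.ker tr := by
    rintro _ ⟨c, rfl⟩
    rw [LinearMap.mem_ker]
    have h := hS.isom γ hγ (c • e) e
    rwa [fe hγZ, hS.herm.smul_left, hee, mul_zero, map_zero] at h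
  have hrange : LinearMap.range D = LinearMap.ker tr := by
    refine Submodule.eq_of_le_of_finrank_le hle ?_
    have h1 := LinearMap.finrank_range_add_finrank_ker (Algebra.trace F E)
    rw [hS.deg, LinearMap.range_eq_top.mpr (Algebra.trace_surjective F E), finrank_top, Module.finrank_self] at h1
    omega
  have hspan : ∀ y₁ : E, ∃ y, y ∈ LinearMap.range D ∧ τ y = y ∧ y ∉ Submodule.span F {y₁} := by
    intro y₁
    by_contra hcon
    push Not at hcon
    have hsub : LinearMap.range D ≤ Submodule.span F {y₁} := fun x hx => by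
      have hxt : τ x ∈ LinearMap.range D := by
        rw [hrange, LinearMap.mem_ker, hS.inv.tr_tau]
        rw [hrange, LinearMap.mem_ker] at hx
        rw [hx, map_zero]
      obtain ⟨l, hl, hls⟩ := hS.inv.exists_ne
      have h1 := hcon (x + τ x) (add_mem hx hxt) (by rw [map_add, hS.inv.invol, add_comm])
      have h2 := hcon (hS.inv.ne.choose • x + σ hS.inv.ne.choose • τ x)
        (add_mem (Submodule.smul_mem _ _ hx) (Submodule.smul_mem _ _ hxt))
        (by rw [map_add, hS.inv.tau_smul, hS.inv.tau_smul, hS.inv.small_invol, hS.inv.invol, add_comm])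
      have h3 : (hS.inv.ne.choose - σ hS.inv.ne.choose) • x ∈ Submodule.span F {y₁} := by
        have := sub_mem h2 (Submodule.smul_mem _ (σ hS.inv.ne.choose) h1)
        convert this using 1
        module
      have h4 := Submodule.smul_mem _ (hS.inv.ne.choose - σ hS.inv.ne.choose)⁻¹ h3
      rwa [smul_smul, inv_mul_cancel₀ (sub_ne_zero.mpr (Ne.symm hS.inv.ne.choose_spec)), one_smul] at h4
    have h5 := (Submodule.finrank_mono hsub).trans (finrank_span_le_card ({y₁} : Set E))
    simp only [Set.toFinset_singleton, Finset.card_singleton] at h5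
    have := hS.three
    omega
  obtain ⟨y₁, hy₁R, hy₁, hy₁s⟩ := hspan 0
  obtain ⟨y₂, hy₂R, hy₂, hy₂s⟩ := hspan y₁
  obtain ⟨c₁, rfl⟩ := hy₁R
  obtain ⟨c₂, rfl⟩ := hy₂R
  have hy₁0 : D c₁ ≠ 0 := fun h => hy₁s (by rw [h]; exact zero_mem _)
  have hy₂0 : D c₂ ≠ 0 := fun h => hy₂s (by rw [h]; exact zero_mem _)
  obtain ⟨η₁, hη₁Z, hη₁⟩ := getb c₁ (D c₁) 1 hy₁0 hy₁ h1Z (fun h => hy₁0 (hDZ _ h)) (mul_one _).symm
  obtain ⟨η₂, hη₂Z, hη₂⟩ := getb c₂ (D c₂) 1 hy₂0 hy₂ h1Z (fun h => hy₂0 (hDZ _ h)) (mul_one _).symm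
  have hne1 : η₁ ≠ 1 := fun h => by
    rw [h, AlgEquiv.one_apply, left_eq_add, smul_eq_zero] at hη₁
    exact hη₁.elim hζ0 one_ne_zero
  obtain ⟨j, hj⟩ : η₂ ∈ Submonoid.powers η₁ :=
    mem_powers_iff_mem_zpowers.mpr (by rw [gal_zpowers hS.deg hS.prime hne1]; trivial)
  change η₁ ^ j = η₂ at hj
  have h2 := hpow η₁ c₁ _ hη₁ (by rw [map_smul, map_one]) j
  rw [hj] at h2
  have hne2 : η₂ ≠ 1 := fun h => by
    rw [h, AlgEquiv.one_apply, left_eq_add, smul_eq_zero] at hη₂
    exact hη₂.elim hζ0 one_ne_zero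
  have hfix : η₂ (c₁ - j • c₂) = c₁ - j • c₂ := by
    rw [map_sub, map_nsmul, h2, hη₂, nsmul_add]; abel
  obtain ⟨b, hb⟩ : ∃ b, algebraMap F E b = c₁ - j • c₂ := by
    by_contra hcon
    push Not at hcon
    exact hne2 (gal_inj_at hS.deg hS.prime hcon (τ := 1) (by rw [hfix, AlgEquiv.one_apply]))
  have h0 : D (c₁ - j • c₂) = 0 := hDZ _ (hb ▸ hZF b)
  rw [map_sub, map_nsmul, sub_eq_zero] at h0
  by_cases hj0 : (j : F) = 0
  · exact hy₁0 (by rw [h0, ← Nat.cast_smul_eq_nsmul F, hj0, zero_smul])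
  refine hy₂s (Submodule.mem_span_singleton.mpr ⟨(j : F)⁻¹, ?_⟩)
  rw [h0, ← Nat.cast_smul_eq_nsmul F, smul_smul, inv_mul_cancel₀ hj0, one_smul]

end Point

/-- Either every member maps the line of `e` to a line, or the transvections are all there. -/
theorem lineMap_or_full {e : V} (he : e ≠ 0) (hee : φ e e = 0) :
    (∀ g ∈ X, LineMap E e g) ∨ Full σ φ X e := by
  classical
  haveI := finiteDimensional (F := F) (E := E)
  haveI : Finite F := Finite.of_injective _ (algebraMap F E).injective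
  refine or_iff_not_imp_right.mpr fun hfull g hg => ?_
  obtain ⟨e', he', -⟩ := hS.herm.exists_dual hS.inv he hee
  have hne : ∃ a : F, σ a = -a ∧ a • (Algebra.linearMap F E).comp tr ∉ hS.Mlong hee := by
    by_contra hcon
    push Not at hcon
    exact hfull (hS.full_of_mem hee hcon)
  obtain ⟨v, hv⟩ : ∃ v, v = g e := ⟨_, rfl⟩
  have hv0 : v ≠ 0 := hv ▸ fun h => he (g.map_eq_zero_iff.mp h)
  let W : Submodule F V :=
    LinearMap.range (g.toLinearMap.comp ((LinearMap.toSpanSingleton E V e).restrictScalars F))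
  have hW : ∀ x, x ∈ W ↔ ∃ c : E, g (c • e) = x := fun x => Iff.rfl
  have hvW : v ∈ W := (hW v).mpr ⟨1, by rw [one_smul, hv]⟩
  have stab : ∀ t ∈ X, t v = v → ∀ w ∈ W, t w ∈ W := by
    intro t ht htv w hw
    obtain ⟨c, rfl⟩ := (hW w).mp hw
    obtain ⟨d, hd⟩ := hS.no_breaker hee he' hne (g := g⁻¹ * t * g) (mul_mem (mul_mem (inv_mem hg) ht) hg)
      (g.injective (by
        rw [LinearEquiv.mul_apply, LinearEquiv.mul_apply, show g (g⁻¹ (t (g e))) = t (g e) from g.apply_symm_apply _,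
          ← hv, htv])) c
    refine (hW _).mpr ⟨d, ?_⟩
    rw [← hd, LinearEquiv.mul_apply, LinearEquiv.mul_apply]
    exact g.apply_symm_apply _
  -- a full line inside is everything
  have tight : ∀ x, x ≠ 0 → (∀ b : E, b • x ∈ W) → ∀ w ∈ W, ∃ b : E, w = b • x := by
    intro x hx hb w hw
    choose f hf using fun b : E => (hW _).mp (hb b)
    have hinj : Function.Injective f := fun a b h => smul_left_injective E hx (show a • x = b • x by rw [← hf, ← hf, h])
    obtain ⟨c, rfl⟩ := (hW w).mp hw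
    obtain ⟨b, rfl⟩ := Finite.surjective_of_injective hinj c
    exact ⟨b, hf b⟩
  suffices h : ∀ w ∈ W, ∃ b : E, w = b • v by
    intro c
    obtain ⟨b, hb⟩ := h _ ((hW _).mpr ⟨c, rfl⟩)
    exact ⟨b, by rw [hb, hv]⟩
  obtain ⟨l, hl, hls⟩ := hS.inv.exists_ne
  by_cases hvv : φ v v = 0
  · obtain ⟨v', hv', -⟩ := hS.herm.exists_dual hS.inv hv0 hvv
    have hlong : ∀ w ∈ W, φ w v ≠ 0 → ∀ b : E, b • v ∈ W := by
      intro w hw hwv b
      have hk : ∀ a : E, τ a = a → (a * φ w v) • v ∈ W := fun a ha => by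
        have hs : τ (algebraMap F E (l - σ l) * a) = -(algebraMap F E (l - σ l) * a) := by
          rw [map_mul, ha, hS.skew_algebraMap hls, neg_mul]
        obtain ⟨t, ht, htx⟩ := hS.long v hvv _ hs
        have h1 : (algebraMap F E (l - σ l) * a * φ w v) • v ∈ W := by
          have := sub_mem (stab t ht (by rw [htx, hvv, mul_zero, zero_smul, add_zero]) w hw) hw
          rwa [htx, add_sub_cancel_left] at this
        rw [mul_assoc, mul_smul, IsScalarTower.algebraMap_smul] at h1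
        have h2 := W.smul_mem (l - σ l)⁻¹ h1
        rwa [smul_smul, inv_mul_cancel₀ hl, one_smul] at h2
      obtain ⟨a₁, a₂, ha₁, ha₂, hsp⟩ := hS.inv.split hl (b / φ w v)
      have h1 := add_mem (hk _ ha₁) (W.smul_mem l (hk _ ha₂))
      rw [← smul_assoc, ← add_smul] at h1
      have e1 : a₁ * φ w v + l • a₂ * φ w v = b := by
        rw [← add_mul, ← hsp, div_mul_cancel₀ _ hwv]
      rw [← e1, smul_mul_assoc]
      exact h1
    intro w hw
    by_contra hwl
    push Not at hwl
    have hwv : φ w v = 0 := by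
      by_contra hne0
      obtain ⟨b, hb⟩ := tight v hv0 (hlong w hw hne0) w hw
      exact hne0 (by rw [hb, hS.herm.smul_left, hvv, mul_zero])
    obtain ⟨u, hu, huw⟩ : ∃ u, φ u v = 0 ∧ φ w u ≠ 0 := by
      by_contra hcon
      push Not at hcon
      exact hwl _ (hS.herm.eq_smul_of_perp hv' hcon)
    refine absurd (tight v hv0 (fun b => ?_) w hw) (by push Not; exact hwl)
    have hbu : φ (τ (-b / φ w u) • u) v = 0 := by rw [hS.herm.smul_left, hu, mul_zero]
    obtain ⟨t, ht, z, htx⟩ := hS.short v _ hvv hbu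
    have h1 := sub_mem (stab t ht (by
      rw [htx, hvv, hS.herm.comm_zero hbu, mul_zero, sub_zero, zero_smul, zero_smul, add_zero, add_zero]) w hw) hw
    rwa [htx, hwv, zero_smul, add_zero, mul_zero, zero_sub, hS.herm.smul_right, hS.inv.invol,
      div_mul_cancel₀ _ huw, neg_neg, add_sub_cancel_left] at h1
  · have hperp0 : ∀ y ∈ W, φ y v = 0 → y = 0 := by
      intro y hy hyv
      by_contra hy0
      obtain ⟨t, ht, htl, htv, c, hcF, htc⟩ := hS.homology v hvv y hyv
      let C : Submodule F E := W.comap ((LinearMap.toSpanSingleton E V y).restrictScalars F)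
      have hC : ∀ b, b ∈ C ↔ b • y ∈ W := fun b => Iff.rfl
      have hCμ : ∀ b ∈ C, c * b ∈ C := fun b hb => by
        have := stab t ht htv _ ((hC b).mp hb)
        rw [htl.1, htc, smul_smul, mul_comm] at this
        exact (hC _).mpr this
      have hC1 : (1 : E) ∈ C := (hC 1).mpr (by rwa [one_smul])
      let S : Subalgebra F E :=
        { carrier := {b | ∀ x ∈ C, b * x ∈ C}
          mul_mem' := fun {a b} ha hb x hx => by rw [mul_assoc]; exact ha _ (hb x hx)
          add_mem' := fun {a b} ha hb x hx => by rw [add_mul]; exact add_mem (ha x hx) (hb x hx)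
          algebraMap_mem' := fun a x hx => by rw [← Algebra.smul_def]; exact C.smul_mem a hx }
      haveI := Subalgebra.isSimpleOrder_of_finrank_prime F E (by rw [hS.deg]; exact hS.prime)
      have htop : S = ⊤ := by
        refine (eq_bot_or_eq_top S).resolve_left fun h => ?_
        have hm : c ∈ S := hCμ
        rw [h, Algebra.mem_bot] at hm
        obtain ⟨a, ha⟩ := hm
        exact hcF a ha
      have hall : ∀ b : E, b • y ∈ W := fun b => by
        have hb : b ∈ S := htop ▸ Algebra.mem_top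
        simpa using (hC _).mp (hb 1 hC1)
      obtain ⟨b, hb⟩ := tight y hy0 hall v hvW
      refine hvv ?_
      have h1 : φ v v = b * φ y v := by rw [← hS.herm.smul_left, ← hb]
      rw [h1, hyv, mul_zero]
    intro w hw
    obtain ⟨b, hb⟩ : ∃ b, b = φ w v / φ v v := ⟨_, rfl⟩
    obtain ⟨y, hy⟩ : ∃ y, y = w - b • v := ⟨_, rfl⟩
    have hyv : φ y v = 0 := by
      rw [hy, hS.herm.sub_left, hS.herm.smul_left, hb, div_mul_cancel₀ _ hvv, sub_self]
    obtain ⟨t, ht, htl, htv, c, hcF, htc⟩ := hS.homology v hvv y hyv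
    have hsub : t w - w = (c - 1) • y := by
      have hw' : w = y + b • v := by rw [hy, sub_add_cancel]
      rw [hw', map_add, htl.1, htc, htv, sub_smul, one_smul]
      abel
    have h1 := hperp0 _ (sub_mem (stab t ht htv w hw) hw) (by rw [hsub, hS.herm.smul_left, hyv, mul_zero])
    rw [hsub] at h1
    have h2 := (smul_eq_zero.mp h1).resolve_left (sub_ne_zero.mpr fun e => hcF 1 (by rw [map_one, e]))
    rw [hy] at h2
    exact ⟨b, sub_eq_zero.mp h2⟩

end Setup

end Cfsg.Agent.Classical.FieldExt.Herm
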