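/-
Line preserving maps are semilinear; the dichotomy for overgroups of a unitary group over an extension field.
-/
import Cfsg.Agent.Lib.Classical.FieldExt.Herm.Main
import Cfsg.Agent.Lib.Classical.FieldExt.Symp.Basic

set_option autoImplicit false
set_option linter.style.haveILetI false
set_option linter.unusedSectionVars false

namespace Cfsg.Agent.Classical.FieldExt.Herm

open Cfsg.Agent.Classical.FieldExt
open Cfsg.Agent.Classical.FieldExt.Symp (SemiV)

variable {F E V : Type*} [Field F] [Field E] [Algebra F E] [Finite E] [AddCommGroup V] [Module F V] [Module E V]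
  [IsScalarTower F E V] [Finite V] {σ : F ≃+* F} {τ : E ≃+* E} {φ : V → V → E} {μ : E}
  {X : Subgroup (V ≃ₗ[F] V)} {r : ℕ}

/-- A map sending isotropic lines to lines is semilinear. -/
theorem semi_of_lines (hτ : IsExtInv σ τ) (hφ : IsHerm τ φ) {e₀ : V} (he₀ : e₀ ≠ 0) (hee₀ : φ e₀ e₀ = 0)
    {g : V ≃ₗ[F] V} (h : ∀ e : V, e ≠ 0 → φ e e = 0 → LineMap E e g) : SemiV E g := by
  classical
  have hg0 : ∀ {x : V}, x ≠ 0 → g x ≠ 0 := fun {x} hx e => hx (g.map_eq_zero_iff.mp e)
  have h' : ∀ (x : V) (c : E), ∃ d : E, (x ≠ 0 ∧ φ x x = 0) → g (c • x) = d • g x := fun x c => by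
    by_cases hx : x ≠ 0 ∧ φ x x = 0
    · exact (h x hx.1 hx.2 c).imp fun d hd _ => hd
    · exact ⟨0, fun e => absurd e hx⟩
  choose f hf using h'
  -- a common scalar on non-orthogonal points
  have pair : ∀ e x, e ≠ 0 → φ e e = 0 → x ≠ 0 → φ x x = 0 → φ x e ≠ 0 →
      (∀ c, f x c = f e c) ∧ ∀ a b, f e (a * b) = f e a * f e b := by
    intro e x he hee hx hxx hxe
    have hfx : ∀ c, g (c • x) = f x c • g x := fun c => hf x c ⟨hx, hxx⟩
    have hfe : ∀ c, g (c • e) = f e c • g e := fun c => hf e c ⟨he, hee⟩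
    have hinj : Function.Injective (f e) := fun a b hab =>
      smul_left_injective E he (g.injective (show g (a • e) = g (b • e) by rw [hfe, hfe, hab]))
    have hind : ∀ u v : E, u • g e + v • g x = 0 → u = 0 ∧ v = 0 := by
      intro u v huv
      by_cases hv : v = 0
      · rw [hv, zero_smul, add_zero] at huv
        exact ⟨(smul_eq_zero.mp huv).resolve_right (hg0 he), hv⟩
      obtain ⟨a, ha⟩ := Finite.surjective_of_injective hinj (-(v⁻¹ * u))
      have hgx : g x = g (a • e) := by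
        rw [hfe, ha, neg_smul, eq_neg_iff_add_eq_zero]
        have := congrArg (fun y => v⁻¹ • y) huv
        simpa [smul_add, smul_smul, inv_mul_cancel₀ hv, add_comm] using this
      exfalso
      apply hxe
      rw [g.injective hgx, hφ.smul_left, hee, mul_zero]
    have addlin : ∀ (y : V), y ≠ 0 → φ y y = 0 → ∀ a b : E, f y (a + b) = f y a + f y b := fun y hy hyy a b =>
      smul_left_injective E (hg0 hy) (show f y (a + b) • g y = (f y a + f y b) • g y by
        rw [← hf y _ ⟨hy, hyy⟩, add_smul, map_add, hf y _ ⟨hy, hyy⟩, hf y _ ⟨hy, hyy⟩, add_smul])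
    have smullin : ∀ (y : V), y ≠ 0 → φ y y = 0 → ∀ (l : F) (a : E), f y (l • a) = l • f y a := fun y hy hyy l a =>
      smul_left_injective E (hg0 hy) (show f y (l • a) • g y = (l • f y a) • g y by
        rw [← hf y _ ⟨hy, hyy⟩, smul_assoc, map_smul, hf y _ ⟨hy, hyy⟩, smul_assoc])
    obtain ⟨l, hl, hls⟩ := hτ.exists_ne
    obtain ⟨ζ, hζ⟩ : ∃ ζ, ζ = algebraMap F E (l - σ l) := ⟨_, rfl⟩
    have hζ0 : ζ ≠ 0 := hζ ▸ (map_ne_zero _).mpr hl
    have hζt : τ ζ = -ζ := by rw [hζ, hτ.base, hls, map_neg]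
    obtain ⟨b₀, hb₀⟩ : ∃ b₀, b₀ = ζ / φ x e := ⟨_, rfl⟩
    have key : ∀ a : E, τ a = a → ∀ c, f x (c * (a * b₀)) = f e c * f x (a * b₀) := by
      intro a ha c
      have hiso : φ (e + (a * b₀) • x) (e + (a * b₀) • x) = 0 := by
        simp only [hφ.add_left, hφ.add_right, hφ.smul_left, hφ.smul_right, hee, hxx, hφ.symm x e, map_mul, ha, hb₀,
          map_div₀, hζt, mul_zero, add_zero, zero_add]
        have hne' : τ (φ x e) ≠ 0 := (EmbeddingLike.map_ne_zero_iff).mpr hxe
        field_simp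
        ring
      have hne0 : e + (a * b₀) • x ≠ 0 := fun h0 => by
        have := congrArg (fun y => φ y x) h0
        simp only [hφ.add_left, hφ.smul_left, hxx, mul_zero, add_zero, hφ.zero_left] at this
        exact hxe (hφ.comm_zero this)
      obtain ⟨D, hD⟩ := h _ hne0 hiso c
      rw [smul_add, smul_smul, map_add, map_add, hfe, hfx, hfx, smul_add, smul_smul] at hD
      obtain ⟨h1, h2⟩ := hind (f e c - D) (f x (c * (a * b₀)) - D * f x (a * b₀)) (by
        rw [sub_smul, sub_smul, sub_add_sub_comm, hD, sub_self])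
      rw [← sub_eq_zero.mp h1] at h2
      exact sub_eq_zero.mp h2
    have hb00 : b₀ ≠ 0 := hb₀ ▸ div_ne_zero hζ0 hxe
    obtain ⟨K, hK⟩ : ∃ K, K = f x b₀ := ⟨_, rfl⟩
    have hK0 : K ≠ 0 := fun h0 => smul_ne_zero hb00 hx (g.map_eq_zero_iff.mp (by rw [hfx, ← hK, h0, zero_smul]))
    have hall : ∀ c, f x (c * b₀) = f e c * K := fun c => by
      have := key 1 (map_one τ) c
      rwa [one_mul, ← hK] at this
    have hmulfix : ∀ a : E, τ a = a → ∀ c, f e (c * a) = f e c * f e a := fun a ha c => mul_right_cancel₀ hK0 (by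
      rw [← hall, mul_assoc, key a ha, mul_assoc, ← hall])
    have hmul : ∀ a b, f e (a * b) = f e a * f e b := fun a b => by
      obtain ⟨b₁, b₂, hb₁, hb₂, rfl⟩ := hτ.split hl b
      rw [mul_add, mul_smul_comm, addlin e he hee, addlin e he hee, smullin e he hee, smullin e he hee,
        hmulfix _ hb₁, hmulfix _ hb₂, mul_add, mul_smul_comm]
    refine ⟨fun c => ?_, hmul⟩
    have h1 : f x 1 = 1 := smul_left_injective E (hg0 hx) (show f x 1 • g x = (1 : E) • g x by
      rw [← hfx, one_smul, one_smul])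
    have hc : ∀ c, f x c = f e c * (f e b₀⁻¹ * K) := fun c => by
      rw [← mul_assoc, ← hmul, ← hall, inv_mul_cancel_right₀ hb00]
    have he1 : f e 1 = 1 := smul_left_injective E (hg0 he) (show f e 1 • g e = (1 : E) • g e by
      rw [← hfe, one_smul, one_smul])
    have hk1 := hc 1
    rw [h1, he1, one_mul] at hk1
    rw [hc, ← hk1, mul_one]
  -- transfer through a common neighbour
  have same : ∀ x, x ≠ 0 → φ x x = 0 → (∀ c, f x c = f e₀ c) ∧ ∀ a b, f e₀ (a * b) = f e₀ a * f e₀ b := by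
    intro x hx hxx
    by_cases hxe : φ x e₀ = 0
    · obtain ⟨u, hux, hue⟩ := hφ.exists_common hx he₀
      obtain ⟨z, hz⟩ := hφ.exists_isotropic_shift hτ hxx hux
      have h1 : φ (u + z • x) e₀ ≠ 0 := by
        rw [hφ.add_left, hφ.smul_left, hxe, mul_zero, add_zero]; exact hue
      have h2 : φ (u + z • x) x ≠ 0 := by
        rw [hφ.add_left, hφ.smul_left, hxx, mul_zero, add_zero]; exact hux
      have hne0 : u + z • x ≠ 0 := fun h0 => h2 (by rw [h0, hφ.zero_left])
      obtain ⟨hA, hm⟩ := pair e₀ _ he₀ hee₀ hne0 hz h1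
      obtain ⟨hB, -⟩ := pair _ x hne0 hz hx hxx (fun h0 => h2 (hφ.comm_zero h0))
      exact ⟨fun c => by rw [hB, hA], hm⟩
    · exact pair e₀ x he₀ hee₀ hx hxx hxe
  have hmul := (same e₀ he₀ hee₀).2
  refine ⟨f e₀, fun c v => ?_⟩
  let S : Submodule E V :=
    { carrier := {x | ∀ c, g (c • x) = f e₀ c • g x}
      zero_mem' := fun c => by simp
      add_mem' := fun {x y} hx hy c => by rw [smul_add, map_add, hx, hy, map_add, smul_add]
      smul_mem' := fun d x hx c => by rw [smul_smul, hx, hmul, mul_smul, hx d] }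
  have hiso : ∀ x, φ x x = 0 → x ∈ S := fun x hxx => by
    by_cases hx : x = 0
    · rw [hx]; exact zero_mem S
    · exact fun c => by rw [hf x c ⟨hx, hxx⟩, (same x hx hxx).1]
  obtain ⟨e', he', hee'⟩ := hφ.exists_dual hτ he₀ hee₀
  have hpe : φ e₀ e' = 1 := by rw [hφ.symm e' e₀, he', map_one]
  obtain ⟨y, hy⟩ : ∃ y, y = v - φ v e₀ • e' - φ v e' • e₀ := ⟨_, rfl⟩
  have hy1 : φ y e₀ = 0 := by
    rw [hy, hφ.sub_left, hφ.sub_left, hφ.smul_left, hφ.smul_left, he', hee₀, mul_one, sub_self, mul_zero, sub_zero]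
  have hy2 : φ y e' = 0 := by
    rw [hy, hφ.sub_left, hφ.sub_left, hφ.smul_left, hφ.smul_left, hee', hpe, mul_zero, sub_zero, mul_one, sub_self]
  obtain ⟨z, hz⟩ := hτ.exists_half (d := -φ y y) (by rw [map_neg, hφ.self_fixed])
  have hy3 : y + z • e₀ + e' ∈ S := hiso _ (by
    simp only [hφ.add_left, hφ.add_right, hφ.smul_left, hφ.smul_right, hee₀, hee', hy1, hy2, hφ.comm_zero hy1,
      hφ.comm_zero hy2, he', hpe, mul_zero, mul_one, add_zero, zero_add]
    linear_combination hz)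
  have hv : v = (y + z • e₀ + e') - z • e₀ - e' + φ v e₀ • e' + φ v e' • e₀ := by rw [hy]; abel
  have hvS : v ∈ S := by
    rw [hv]
    exact add_mem (add_mem (sub_mem (sub_mem hy3 (S.smul_mem z (hiso _ hee₀))) (hiso _ hee'))
      (S.smul_mem _ (hiso _ hee'))) (S.smul_mem _ (hiso _ hee₀))
  exact hvS c

namespace Setup

variable (hS : Setup σ τ φ μ X r)

include hS

/-- A transvection centred at a non-orthogonal point breaks a line. -/
theorem breaks {e₁ e : V} (he : e ≠ 0) (hee : φ e e = 0) (hee₁ : φ e₁ e₁ = 0) (hne : φ e e₁ ≠ 0) {a : F}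
    (ha : a ≠ 0) {g : V ≃ₗ[F] V}
    (hg : ∀ x, g x = x + algebraMap F E (a * Algebra.trace F E (φ x e₁)) • e₁) : ¬ LineMap E e g := by
  intro hl
  haveI := finiteDimensional (F := F) (E := E)
  haveI : Finite F := Finite.of_injective _ (algebraMap F E).injective
  have he₁ : e₁ ≠ 0 := fun h => hne (by rw [h, hS.herm.zero_right])
  have key : ∀ c : E,
      algebraMap F E (a * Algebra.trace F E (c * φ e e₁)) = c * algebraMap F E (a * Algebra.trace F E (φ e e₁)) := by
    intro c
    obtain ⟨d, hd⟩ := hl c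
    rw [hg, hg, hS.herm.smul_left, smul_add, smul_smul] at hd
    have h := congrArg (fun y => φ y e₁) hd
    simp only [hS.herm.add_left, hS.herm.smul_left, hee₁, mul_zero, add_zero] at h
    have hcd := mul_right_cancel₀ hne h
    subst hcd
    rw [add_right_inj] at hd
    exact smul_left_injective E he₁ hd
  obtain ⟨c₀, hc₀⟩ := Algebra.trace_surjective F E 1
  by_cases h1 : Algebra.trace F E (φ e e₁) = 0
  · have h2 := key (c₀ / φ e e₁)
    rw [div_mul_cancel₀ _ hne, hc₀, h1, mul_zero, map_zero, mul_zero, mul_one, map_eq_zero] at h2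
    exact ha h2
  · obtain ⟨w, hw, hw0⟩ : ∃ w, Algebra.trace F E w = 0 ∧ w ≠ 0 := by
      by_contra hcon
      push Not at hcon
      have h3 := LinearMap.finrank_range_add_finrank_ker (Algebra.trace F E)
      rw [hS.deg, show LinearMap.ker (Algebra.trace F E) = ⊥ from (Submodule.eq_bot_iff _).mpr fun x hx =>
        hcon x (LinearMap.mem_ker.mp hx), finrank_bot] at h3
      have h4 := Submodule.finrank_le (LinearMap.range (Algebra.trace F E))
      rw [Module.finrank_self] at h4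
      have := hS.three
      omega
    have h2 := key (w / φ e e₁)
    rw [div_mul_cancel₀ _ hne, hw, mul_zero, map_zero, eq_comm, mul_eq_zero, map_eq_zero, mul_eq_zero] at h2
    exact h2.elim (div_ne_zero hw0 hne) fun h2 => h2.elim ha h1

/-- The dichotomy. -/
theorem overgroup {e₀ : V} (he₀ : e₀ ≠ 0) (hee₀ : φ e₀ e₀ = 0) :
    (∀ g ∈ X, SemiV E g) ∨ ∀ e, φ e e = 0 → Full σ φ X e := by
  classical
  by_contra hcon
  push Not at hcon
  obtain ⟨⟨g, hg, hgs⟩, e, hee, hfull⟩ := hcon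
  have he : e ≠ 0 := fun h => hfull fun a _ => ⟨1, one_mem X, fun x => by rw [h, smul_zero, add_zero]; rfl⟩
  obtain ⟨e₁, he₁, hee₁, hl⟩ : ∃ e₁ : V, e₁ ≠ 0 ∧ φ e₁ e₁ = 0 ∧ ¬ LineMap E e₁ g := by
    by_contra hc
    push Not at hc
    exact hgs (semi_of_lines hS.inv hS.herm he₀ hee₀ hc)
  have hf1 : Full σ φ X e₁ := (hS.lineMap_or_full he₁ hee₁).resolve_left fun h => hl (h g hg)
  obtain ⟨a, ha0, has⟩ := hS.exists_skew
  have step : ∀ x y : V, y ≠ 0 → φ x x = 0 → φ y y = 0 → φ y x ≠ 0 → Full σ φ X x → Full σ φ X y := by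
    intro x y hy hxx hyy hyx hx
    obtain ⟨t, ht, htx⟩ := hx a has
    exact (hS.lineMap_or_full hy hyy).resolve_left fun h => hS.breaks hy hyy hxx hyx ha0 htx (h t ht)
  refine hfull ?_
  by_cases h1 : φ e e₁ = 0
  · obtain ⟨u, hue, hue1⟩ := hS.herm.exists_common he he₁
    obtain ⟨z, hz⟩ := hS.herm.exists_isotropic_shift hS.inv hee hue
    have h2 : φ (u + z • e) e ≠ 0 := by
      rw [hS.herm.add_left, hS.herm.smul_left, hee, mul_zero, add_zero]; exact hue
    have h3 : φ (u + z • e) e₁ ≠ 0 := by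
      rw [hS.herm.add_left, hS.herm.smul_left, h1, mul_zero, add_zero]; exact hue1
    have h4 : u + z • e ≠ 0 := fun h0 => h2 (by rw [h0, hS.herm.zero_left])
    exact step _ e he hz hee (fun h0 => h2 (hS.herm.comm_zero h0)) (step e₁ _ h4 hee₁ hz h3 hf1)
  · exact step e₁ e he hee₁ hee h1 hf1

end Setup

end Cfsg.Agent.Classical.FieldExt.Herm
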