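/-
The involution of the extension field is the power map, and the scalars of norm one it provides; rank one
determinants.
-/
import Cfsg.Agent.Lib.Classical.FieldExt.Herm.Semi
import Cfsg.Agent.Lib.Classical.UnitaryOvergroup

set_option autoImplicit false
set_option linter.style.haveILetI false
set_option linter.unusedSectionVars false

namespace Cfsg.Agent.Classical.FieldExt.Herm

open Cfsg.Agent.Classical Cfsg.Agent.Classical.FieldExt

variable {F E : Type*} [Field F] [Fintype F] [Field E] [Fintype E] [Algebra F E] {q r : ℕ} {σ : F ≃+* F}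
  {τ : E ≃+* E}

theorem iterate_invol (hσ : IsUSigma q σ) (j : ℕ) (a : F) :
    a ^ (q ^ (2 * j)) = a ∧ a ^ (q ^ (2 * j + 1)) = σ a := by
  induction j with
  | zero => exact ⟨by simp, by simp [hσ.apply_eq]⟩
  | succ j ih =>
    have h2 : a ^ (q ^ (2 * (j + 1))) = a := by
      rw [show 2 * (j + 1) = 2 * j + 1 + 1 by omega, pow_succ, pow_mul, ih.2, ← hσ.apply_eq, hσ.involutive]
    exact ⟨h2, by rw [pow_succ, pow_mul, h2, hσ.apply_eq]⟩

theorem big_usigma (hσ : IsUSigma q σ) (hτ : IsExtInv σ τ) (hr : Module.finrank F E = r) (hro : Odd r) :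
    IsUSigma (q ^ r) τ := by
  haveI := finiteDimensional (F := F) (E := E)
  have hcard : Fintype.card E = (q ^ r) ^ 2 := by
    rw [Module.card_eq_pow_finrank (K := F), hr, hσ.card, ← pow_mul, ← pow_mul, mul_comm]
  obtain ⟨p, e, τ', -, -, -, -, hτ'⟩ := exists_usigma hcard
  have hbase : ∀ a : F, τ' (algebraMap F E a) = algebraMap F E (σ a) := fun a => by
    obtain ⟨j, rfl⟩ := hro
    rw [hτ'.apply_eq, ← map_pow, (iterate_invol hσ j a).2]
  let g : E ≃ₐ[F] E := AlgEquiv.ofRingEquiv (f := τ'.trans τ) fun a => by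
    rw [RingEquiv.trans_apply, hbase, hτ.base, hτ.small_invol]
  have hg : ∀ x, g x = τ (τ' x) := fun x => rfl
  have hcomm : ∀ x, τ' (τ x) = τ (τ' x) := fun x => by rw [hτ'.apply_eq, hτ'.apply_eq, map_pow]
  have h2 : g ^ 2 = 1 := AlgEquiv.ext fun x => by
    rw [pow_two, AlgEquiv.mul_apply, hg, hg, hcomm, hτ.invol, hτ'.involutive, AlgEquiv.one_apply]
  have hr' : g ^ r = 1 := by rw [← gal_card hr]; exact pow_card_eq_one'
  have h1 : g = 1 := by
    have h3 : g ^ Nat.gcd 2 r = 1 := pow_gcd_eq_one.mpr ⟨h2, hr'⟩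
    rwa [(Nat.coprime_two_left.mpr hro).gcd_eq_one, pow_one] at h3
  have he : ∀ x, τ x = τ' x := fun x => by
    have h4 : τ (τ' x) = x := (hg x).symm.trans (by rw [h1, AlgEquiv.one_apply])
    conv_lhs => rw [← h4, hτ.invol]
  rw [show τ = τ' from RingEquiv.ext he]
  exact hτ'

theorem large_power (hq : 2 ≤ q) (hr : 3 ≤ r) (hne : ¬(q = 2 ∧ r = 3)) (hd : q ^ r + 1 ∣ 2 * (q + 1) * (q + 1)) :
    False := by
  have hle := Nat.le_of_dvd (by positivity) hd
  rcases Nat.lt_or_ge r 5 with h | h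
  · rcases Nat.lt_or_ge q 4 with h4 | h4
    · interval_cases r <;> interval_cases q <;> simp_all
    · have : q ^ 3 ≤ q ^ r := Nat.pow_le_pow_right (by omega) hr
      have h16 : 16 * q ≤ q ^ 3 := by nlinarith [Nat.mul_le_mul h4 h4]
      nlinarith
  · have : q ^ 5 ≤ q ^ r := Nat.pow_le_pow_right (by omega) h
    have h32 : 8 * q * q ≤ q ^ 5 := by
      have : 2 * 2 * 2 ≤ q * q * q := Nat.mul_le_mul (Nat.mul_le_mul hq hq) hq
      calc 8 * q * q = 2 * 2 * 2 * (q * q) := by ring
        _ ≤ q * q * q * (q * q) := Nat.mul_le_mul_right _ this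
        _ = q ^ 5 := by ring
    nlinarith

theorem exists_mu (hσ : IsUSigma q σ) (hτ : IsExtInv σ τ) (hr : Module.finrank F E = r) (hro : Odd r) (hr3 : 3 ≤ r)
    {k : ℕ} (hex : ¬(q = 2 ∧ r = 3) ∨ 3 ≤ k) :
    ∃ μ : E, μ * τ μ = 1 ∧ (∀ c : F, algebraMap F E c ≠ μ * μ) ∧ (Algebra.norm F μ = 1 ∨ 3 ≤ k) := by
  classical
  haveI := finiteDimensional (F := F) (E := E)
  have hb := big_usigma hσ hτ hr hro
  obtain ⟨γ, hγ, -, -, hγd⟩ := hb.exists_norm_one
  have hsq : ∀ (x : E) (c : F), x * τ x = 1 → algebraMap F E c = x * x → (x * x) ^ (q + 1) = 1 := fun x c hx hc => by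
    have h2 : c * σ c = 1 := (algebraMap F E).injective (by
      rw [map_mul, ← hτ.base, hc, map_mul, map_one]; linear_combination (x * τ x + 1) * hx)
    rw [← hc, ← map_pow, pow_succ', ← hσ.apply_eq, h2, map_one]
  have hN : Algebra.norm F γ ^ (q + 1) = 1 := by
    rw [pow_succ', ← hσ.apply_eq]
    refine (algebraMap F E).injective ?_
    rw [map_mul, ← hτ.base, map_one]
    haveI : Finite (E ≃ₐ[F] E) := Finite.of_injective (fun g : E ≃ₐ[F] E => (g : E → E)) DFunLike.coe_injective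
    letI := Fintype.ofFinite (E ≃ₐ[F] E)
    rw [Algebra.norm_eq_prod_automorphisms, map_prod, ← Finset.prod_mul_distrib]
    refine Finset.prod_eq_one fun g _ => ?_
    rw [← hτ.gal_comm, ← map_mul, hγ, map_one]
  by_cases hne : q = 2 ∧ r = 3
  · refine ⟨γ, hγ, fun c hc => ?_, Or.inr (hex.resolve_left fun h => h hne)⟩
    have := hsq γ c hγ hc
    rw [hne.1, ← pow_two, ← pow_mul] at this
    have := Nat.le_of_dvd (by norm_num) (hγd _ this)
    rw [hne.1, hne.2] at this
    omega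
  · refine ⟨γ ^ (q + 1), ?_, fun c hc => ?_, Or.inl (by rw [map_pow, hN])⟩
    · rw [map_pow, ← mul_pow, hγ, one_pow]
    · have := hsq _ c (by rw [map_pow, ← mul_pow, hγ, one_pow]) hc
      rw [← pow_two, ← pow_mul, ← pow_mul] at this
      refine large_power hσ.two_le hr3 hne ?_
      convert hγd _ this using 1
      ring

end Cfsg.Agent.Classical.FieldExt.Herm
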