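/-
Field extension normalisers of odd prime degree are maximal in special unitary groups.
-/
import Cfsg.Agent.Lib.Classical.FieldExt.Herm.Field
import Cfsg.Agent.Lib.Classical.FieldSubalgebra

set_option autoImplicit false
set_option linter.style.haveILetI false
set_option linter.unusedSectionVars false
set_option maxHeartbeats 2000000

namespace Cfsg.Agent.Classical.FieldExt.Herm

open Matrix Cfsg Cfsg.Geo Cfsg.Agent.Classical Cfsg.Agent.Classical.FieldExt
open Cfsg.Agent.Classical.FieldExt.Symp (SemiV)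

section Elements

variable {F E V : Type*} [Field F] [Field E] [Algebra F E] [Finite E] [AddCommGroup V] [Module F V] [Module E V]
  [IsScalarTower F E V] [Finite V] {σ : F ≃+* F} {τ : E ≃+* E} {φ : V → V → E} {X : Subgroup (V ≃ₗ[F] V)}

/-- An isometry over the big field of norm one determinant gives a member. -/
theorem member (hφ : IsHerm τ φ)
    (hN : ∀ g : V ≃ₗ[F] V, SemiV E g → (∀ x y, Algebra.trace F E (φ (g x) (g y)) = Algebra.trace F E (φ x y)) →
      LinearMap.det g.toLinearMap = 1 → g ∈ X)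
    (G : V →ₗ[E] V) (hiso : ∀ x y, φ (G x) (G y) = φ x y) (hdet : Algebra.norm F (LinearMap.det G) = 1) :
    ∃ g ∈ X, LinIso φ g ∧ ∀ x, g x = G x := by
  have hinj : Function.Injective G := fun a b h => sub_eq_zero.mp (hφ.nondeg _ fun y => by
    rw [hφ.sub_left, ← hiso a y, ← hiso b y, h, sub_self])
  let g : V ≃ₗ[F] V := LinearEquiv.ofBijective (G.restrictScalars F) (Finite.injective_iff_bijective.mp hinj)
  have hga : ∀ x, g x = G x := fun x => rfl
  haveI : Module.Finite E V := Module.Finite.of_finite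
  refine ⟨g, hN g ⟨id, fun c v => by rw [hga, hga, map_smul]; rfl⟩ (fun x y => by rw [hga, hga, hiso]) ?_,
    ⟨fun c x => by rw [hga, hga, map_smul], fun x y => by rw [hga, hga, hiso]⟩, hga⟩
  change LinearMap.det (G.restrictScalars F) = 1
  rw [LinearMap.det_restrictScalars, hdet]

/-- The functional of a vector. -/
def dual (hφ : IsHerm τ φ) (v : V) (c : E) : Module.Dual E V where
  toFun x := c * φ x v
  map_add' x y := by rw [hφ.add_left, mul_add]
  map_smul' a x := by rw [hφ.smul_left, RingHom.id_apply, smul_eq_mul]; ring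

theorem dual_apply (hφ : IsHerm τ φ) (v : V) (c : E) (x : V) : dual hφ v c x = c * φ x v := rfl

theorem exists_long (hφ : IsHerm τ φ)
    (hN : ∀ g : V ≃ₗ[F] V, SemiV E g → (∀ x y, Algebra.trace F E (φ (g x) (g y)) = Algebra.trace F E (φ x y)) →
      LinearMap.det g.toLinearMap = 1 → g ∈ X)
    (v : V) (hv : φ v v = 0) (s : E) (hs : τ s = -s) : ∃ g ∈ X, ∀ x, g x = x + (s * φ x v) • v := by
  haveI : Module.Finite E V := Module.Finite.of_finite
  obtain ⟨g, hg, -, hgx⟩ := member hφ hN (LinearMap.transvection (dual hφ v s) v) (fun x y => by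
    simp only [LinearMap.transvection.apply, dual_apply, hφ.add_left, hφ.add_right, hφ.smul_left, hφ.smul_right, hv,
      map_mul, hs, ← hφ.symm y v]
    ring) (by rw [LinearMap.transvection.det, dual_apply, hv, mul_zero, add_zero, map_one])
  exact ⟨g, hg, fun x => by rw [hgx, LinearMap.transvection.apply, dual_apply]⟩

theorem exists_short (hτ : IsExtInv σ τ) (hφ : IsHerm τ φ)
    (hN : ∀ g : V ≃ₗ[F] V, SemiV E g → (∀ x y, Algebra.trace F E (φ (g x) (g y)) = Algebra.trace F E (φ x y)) →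
      LinearMap.det g.toLinearMap = 1 → g ∈ X)
    (e u : V) (he : φ e e = 0) (hu : φ u e = 0) :
    ∃ g ∈ X, ∃ z, ∀ x, g x = x + φ x e • u + (z * φ x e - φ x u) • e := by
  haveI : Module.Finite E V := Module.Finite.of_finite
  have heu : φ e u = 0 := hφ.comm_zero hu
  obtain ⟨z, hz⟩ := hτ.exists_half (d := -φ u u) (by rw [map_neg, hφ.self_fixed])
  have happ : ∀ x, (LinearMap.transvection (dual hφ e 1) u ∘ₗ
      LinearMap.transvection (dual hφ e z - dual hφ u 1) e) x = x + φ x e • u + (z * φ x e - φ x u) • e := fun x => by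
    simp only [LinearMap.comp_apply, LinearMap.transvection.apply, LinearMap.sub_apply, dual_apply, one_mul,
      hφ.add_left, hφ.smul_left, he, mul_zero, add_zero]
    abel
  obtain ⟨g, hg, -, hgx⟩ := member hφ hN _ (fun x y => by
    rw [happ, happ]
    simp only [hφ.add_left, hφ.add_right, hφ.smul_left, hφ.smul_right, he, hu, heu, map_sub, map_mul, ← hφ.symm y e,
      ← hφ.symm y u]
    linear_combination (φ x e * φ e y) * hz) (by
    rw [LinearMap.det_comp, LinearMap.transvection.det, LinearMap.transvection.det, LinearMap.sub_apply, dual_apply,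
      dual_apply, dual_apply, hu, he, heu, mul_zero, mul_zero, sub_zero, add_zero, mul_one, map_one])
  exact ⟨g, hg, z, fun x => by rw [hgx, happ]⟩

theorem exists_homology (hφ : IsHerm τ φ)
    (hN : ∀ g : V ≃ₗ[F] V, SemiV E g → (∀ x y, Algebra.trace F E (φ (g x) (g y)) = Algebra.trace F E (φ x y)) →
      LinearMap.det g.toLinearMap = 1 → g ∈ X)
    {μ ν : E} (hμ : μ * τ μ = 1) (hν : ν * τ ν = 1) {k : ℕ} (hk : Module.finrank E V = k) (hk1 : 1 ≤ k)
    (hNμ : Algebra.norm F (μ ^ (k - 1) * ν) = 1)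
    (v : V) (hv : φ v v ≠ 0) : ∃ g ∈ X, LinIso φ g ∧ ∀ x, g x = μ • x + ((ν - μ) * φ x v / φ v v) • v := by
  haveI : Module.Finite E V := Module.Finite.of_finite
  have hμ0 : μ ≠ 0 := left_ne_zero_of_mul_eq_one hμ
  have hν0 : ν ≠ 0 := left_ne_zero_of_mul_eq_one hν
  have hμt : τ μ = μ⁻¹ := eq_inv_of_mul_eq_one_right hμ
  have hνt : τ ν = ν⁻¹ := eq_inv_of_mul_eq_one_right hν
  have happ : ∀ x, (μ • LinearMap.transvection (dual hφ v ((ν - μ) / μ / φ v v)) v) x =
      μ • x + ((ν - μ) * φ x v / φ v v) • v := fun x => by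
    rw [LinearMap.smul_apply, LinearMap.transvection.apply, dual_apply, smul_add, smul_smul]
    congr 2
    field_simp
  obtain ⟨g, hg, hgl, hgx⟩ := member hφ hN _ (fun x y => by
    rw [happ, happ]
    simp only [hφ.add_left, hφ.add_right, hφ.smul_left, hφ.smul_right, map_mul, map_sub, map_div₀,
      hφ.self_fixed, ← hφ.symm y v, hμt, hνt]
    field_simp
    ring) (by
    rw [LinearMap.det_smul, LinearMap.transvection.det, dual_apply, hk, show 1 + (ν - μ) / μ / φ v v * φ v v = ν * μ⁻¹ by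
      field_simp; ring]
    obtain ⟨j, rfl⟩ : ∃ j, k = j + 1 := ⟨k - 1, by omega⟩
    rw [pow_succ, show μ ^ j * μ * (ν * μ⁻¹) = μ ^ j * ν by field_simp]
    simpa using hNμ)
  exact ⟨g, hg, hgl, fun x => by rw [hgx, happ]⟩

/-- A non-isotropic vector in the part left over by two vectors. -/
theorem exists_aniso (hτ : IsExtInv σ τ) (hφ : IsHerm τ φ) (h3 : 3 ≤ Module.finrank E V) (a b : V) (f : V → V)
    (ha : ∀ v, φ (f v) a = 0) (hb : ∀ v, φ (f v) b = 0) (hf : ∀ v, v - f v ∈ Submodule.span E ({a, b} : Set V)) :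
    ∃ u, φ u a = 0 ∧ φ u b = 0 ∧ φ u u ≠ 0 := by
  haveI : Module.Finite E V := Module.Finite.of_finite
  by_contra hcon
  push Not at hcon
  have hP : ∀ y, φ y a = 0 → φ y b = 0 → y = 0 := fun y hya hyb => hφ.nondeg y fun v => by
    have h0 : φ y (f v) = 0 := by
      by_contra hne
      obtain ⟨z, hz⟩ := hτ.exists_half (d := (1 : E)) (map_one τ)
      have h1 := hcon (y + τ (z / φ y (f v)) • f v) (by rw [hφ.add_left, hφ.smul_left, hya, ha, mul_zero, add_zero])
        (by rw [hφ.add_left, hφ.smul_left, hyb, hb, mul_zero, add_zero])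
      have hyy := hcon y hya hyb
      have hww := hcon (f v) (ha v) (hb v)
      have hne' : τ (φ y (f v)) ≠ 0 := (EmbeddingLike.map_ne_zero_iff).mpr hne
      simp only [hφ.add_left, hφ.add_right, hφ.smul_left, hφ.smul_right, hyy, hww, hφ.symm y (f v), mul_zero, add_zero,
        zero_add, hτ.invol, map_div₀, div_mul_cancel₀ _ hne, div_mul_cancel₀ _ hne', hz] at h1
      exact one_ne_zero h1
    obtain ⟨c, d, hcd⟩ := Submodule.mem_span_pair.mp (hf v)
    rw [show v = f v + (c • a + d • b) by rw [hcd]; abel, hφ.add_right, hφ.add_right, hφ.smul_right, hφ.smul_right,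
      h0, hya, hyb, mul_zero, mul_zero, add_zero, add_zero]
  have hspan : (⊤ : Submodule E V) ≤ Submodule.span E {a, b} := fun v _ => by
    have h := hf v
    rwa [hP _ (ha v) (hb v), sub_zero] at h
  classical
  have h1 := (Submodule.finrank_mono hspan).trans (finrank_span_le_card ({a, b} : Set V))
  rw [finrank_top, Set.toFinset_insert, Set.toFinset_singleton] at h1
  have h2 : ({a, b} : Finset V).card ≤ 2 := Finset.card_le_two
  omega

theorem exists_scale (hτ : IsExtInv σ τ) (hφ : IsHerm τ φ)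
    (hN : ∀ g : V ≃ₗ[F] V, SemiV E g → (∀ x y, Algebra.trace F E (φ (g x) (g y)) = Algebra.trace F E (φ x y)) →
      LinearMap.det g.toLinearMap = 1 → g ∈ X)
    {μ : E} (hμ : μ * τ μ = 1) {k : ℕ} (hk : Module.finrank E V = k) (hk1 : 1 ≤ k)
    (hcase : Algebra.norm F μ = 1 ∨ 3 ≤ k)
    (e : V) (he : e ≠ 0) (hee : φ e e = 0) : ∃ g ∈ X, LinIso φ g ∧ g e = μ • e := by
  haveI : Module.Finite E V := Module.Finite.of_finite
  rcases hcase with h1 | h3
  · obtain ⟨g, hg, hgl, hgx⟩ := member hφ hN (μ • LinearMap.id) (fun x y => by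
      simp only [LinearMap.smul_apply, LinearMap.id_apply, hφ.smul_left, hφ.smul_right, ← mul_assoc, hμ, one_mul])
      (by rw [LinearMap.det_smul, LinearMap.det_id, mul_one, map_pow, h1, one_pow])
    exact ⟨g, hg, hgl, by rw [hgx]; rfl⟩
  obtain ⟨e', he', hee'⟩ := hφ.exists_dual hτ he hee
  have hpe : φ e e' = 1 := by rw [hφ.symm e' e, he', map_one]
  obtain ⟨u, hue, -, huu⟩ := exists_aniso hτ hφ (by omega) e e' (fun v => v - φ v e • e' - φ v e' • e)
    (fun v => by simp only [hφ.sub_left, hφ.smul_left, he', hee]; ring)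
    (fun v => by simp only [hφ.sub_left, hφ.smul_left, hee', hpe]; ring)
    (fun v => Submodule.mem_span_pair.mpr ⟨φ v e', φ v e, by abel⟩)
  have hμ0 : μ ≠ 0 := left_ne_zero_of_mul_eq_one hμ
  obtain ⟨g, hg, hgl, hgx⟩ := exists_homology hφ hN hμ (ν := (μ ^ (k - 1))⁻¹)
    (by rw [map_inv₀, map_pow, ← mul_inv, ← mul_pow, hμ, one_pow, inv_one]) hk hk1
    (by rw [mul_inv_cancel₀ (pow_ne_zero _ hμ0), map_one]) u huu
  exact ⟨g, hg, hgl, by rw [hgx, hφ.comm_zero hue, mul_zero, zero_div, zero_smul, add_zero]⟩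

/-- An isometry fixing a non-isotropic vector and scaling an orthogonal one outside the ground field. -/
theorem exists_eigen (hτ : IsExtInv σ τ) (hφ : IsHerm τ φ)
    (hN : ∀ g : V ≃ₗ[F] V, SemiV E g → (∀ x y, Algebra.trace F E (φ (g x) (g y)) = Algebra.trace F E (φ x y)) →
      LinearMap.det g.toLinearMap = 1 → g ∈ X)
    {μ : E} (hμ : μ * τ μ = 1) (hμF : ∀ a : F, algebraMap F E a ≠ μ) {k : ℕ} (hk : Module.finrank E V = k)
    (hk1 : 1 ≤ k) (hcase : Algebra.norm F μ = 1 ∨ 3 ≤ k)
    (v : V) (hv : φ v v ≠ 0) (y : V) (hy : φ y v = 0) :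
    ∃ g ∈ X, LinIso φ g ∧ g v = v ∧ ∃ c : E, (∀ a : F, algebraMap F E a ≠ c) ∧ g y = c • y := by
  haveI : Module.Finite E V := Module.Finite.of_finite
  have hμ0 : μ ≠ 0 := left_ne_zero_of_mul_eq_one hμ
  have hμt : τ μ = μ⁻¹ := eq_inv_of_mul_eq_one_right hμ
  rcases hcase with h1 | h3
  · obtain ⟨g, hg, hgl, hgx⟩ := exists_homology hφ hN hμ (ν := 1) (by rw [map_one, one_mul]) hk hk1
      (by rw [mul_one, map_pow, h1, one_pow]) v hv
    exact ⟨g, hg, hgl, by rw [hgx, mul_div_assoc, div_self hv, mul_one, ← add_smul, add_sub_cancel, one_smul],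
      μ, hμF, by rw [hgx, hy, mul_zero, zero_div, zero_smul, add_zero]⟩
  have hvy : φ v y = 0 := hφ.comm_zero hy
  by_cases hy0 : y = 0
  · obtain ⟨g, hg, hgl, hgx⟩ := member hφ hN LinearMap.id (fun _ _ => rfl) (by rw [LinearMap.det_id, map_one])
    exact ⟨g, hg, hgl, hgx v, μ, hμF, by rw [hgx, hy0]; simp⟩
  by_cases hyy : φ y y = 0
  · obtain ⟨l, hl, hls⟩ := hτ.exists_ne
    obtain ⟨a, b, ha, hb, hab⟩ := hτ.split hl μ
    obtain ⟨c, hc, hcF⟩ : ∃ c : E, τ c = c ∧ ∀ x : F, algebraMap F E x ≠ c := by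
      by_contra hcon
      push Not at hcon
      obtain ⟨a', rfl⟩ := hcon a ha
      obtain ⟨b', rfl⟩ := hcon b hb
      exact hμF (a' + l * b') (by rw [hab, map_add, map_mul, Algebra.smul_def])
    have hc0 : c ≠ 0 := fun e => hcF 0 (by rw [map_zero, e])
    obtain ⟨w, hw⟩ := hφ.exists_pair_one hy0
    obtain ⟨w', hw'⟩ : ∃ w', w' = w - (φ w v / φ v v) • v := ⟨_, rfl⟩
    have hw'v : φ w' v = 0 := by rw [hw', hφ.sub_left, hφ.smul_left, div_mul_cancel₀ _ hv, sub_self]
    have hw'y : φ w' y = 1 := by rw [hw', hφ.sub_left, hφ.smul_left, hvy, mul_zero, sub_zero, hw]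
    obtain ⟨z, hz⟩ := hφ.exists_isotropic_shift hτ hyy (y := w') (by rw [hw'y]; exact one_ne_zero)
    obtain ⟨y', hy'⟩ : ∃ y', y' = w' + z • y := ⟨_, rfl⟩
    have h1 : φ y' y = 1 := by rw [hy', hφ.add_left, hφ.smul_left, hyy, mul_zero, add_zero, hw'y]
    have h2 : φ y' y' = 0 := hy' ▸ hz
    have h4 : φ y' v = 0 := by rw [hy', hφ.add_left, hφ.smul_left, hw'v, hy, mul_zero, add_zero]
    have h5 : φ y y' = 1 := by rw [hφ.symm y' y, h1, map_one]
    have happ : ∀ x, (LinearMap.transvection (dual hφ y' (c - 1)) y ∘ₗ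
        LinearMap.transvection (dual hφ y (c⁻¹ - 1)) y') x =
        x + ((c⁻¹ - 1) * φ x y) • y' + ((c - 1) * φ x y') • y := fun x => by
      simp only [LinearMap.comp_apply, LinearMap.transvection.apply, dual_apply, hφ.add_left, hφ.smul_left, h2,
        mul_zero, add_zero]
    obtain ⟨g, hg, hgl, hgx⟩ := member hφ hN _ (fun x x' => by
      rw [happ, happ]
      simp only [hφ.add_left, hφ.add_right, hφ.smul_left, hφ.smul_right, map_mul, map_sub, map_inv₀, map_one, hc,
        ← hφ.symm x' y, ← hφ.symm x' y', hyy, h1, h2, h5]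
      field_simp
      ring) (by
      rw [LinearMap.det_comp, LinearMap.transvection.det, LinearMap.transvection.det, dual_apply, dual_apply, h1, h5,
        mul_one, mul_one, add_sub_cancel, add_sub_cancel, mul_inv_cancel₀ hc0, map_one])
    refine ⟨g, hg, hgl, ?_, c, hcF, ?_⟩
    · rw [hgx, happ, hvy, hφ.comm_zero h4, mul_zero, mul_zero, zero_smul, zero_smul, add_zero, add_zero]
    · rw [hgx, happ, hyy, h5, mul_zero, zero_smul, add_zero, mul_one, sub_smul, one_smul, add_sub_cancel]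
  obtain ⟨u, huv, huy, huu⟩ := exists_aniso hτ hφ (by omega) v y
    (fun x => x - (φ x v / φ v v) • v - (φ x y / φ y y) • y)
    (fun x => by simp only [hφ.sub_left, hφ.smul_left, hy, div_mul_cancel₀ _ hv]; ring)
    (fun x => by simp only [hφ.sub_left, hφ.smul_left, hvy, div_mul_cancel₀ _ hyy]; ring)
    (fun x => Submodule.mem_span_pair.mpr ⟨φ x v / φ v v, φ x y / φ y y, by abel⟩)
  have hyu : φ y u = 0 := hφ.comm_zero huy
  have happ : ∀ x, (LinearMap.transvection (dual hφ y ((μ - 1) / φ y y)) y ∘ₗ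
      LinearMap.transvection (dual hφ u ((μ⁻¹ - 1) / φ u u)) u) x =
      x + ((μ⁻¹ - 1) / φ u u * φ x u) • u + ((μ - 1) / φ y y * φ x y) • y := fun x => by
    simp only [LinearMap.comp_apply, LinearMap.transvection.apply, dual_apply, hφ.add_left, hφ.smul_left, huy,
      mul_zero, add_zero]
  obtain ⟨g, hg, hgl, hgx⟩ := member hφ hN _ (fun x x' => by
    rw [happ, happ]
    simp only [hφ.add_left, hφ.add_right, hφ.smul_left, hφ.smul_right, map_mul, map_sub, map_inv₀, map_div₀, map_one,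
      hφ.self_fixed, hμt, ← hφ.symm x' y, ← hφ.symm x' u, huy, hyu]
    field_simp
    ring) (by
    rw [LinearMap.det_comp, LinearMap.transvection.det, LinearMap.transvection.det, dual_apply, dual_apply,
      div_mul_cancel₀ _ hyy, div_mul_cancel₀ _ huu, add_sub_cancel, add_sub_cancel, mul_inv_cancel₀ hμ0, map_one])
  refine ⟨g, hg, hgl, ?_, μ, hμF, ?_⟩
  · rw [hgx, happ, hvy, hφ.comm_zero huv, mul_zero, mul_zero, zero_smul, zero_smul, add_zero, add_zero]
  · rw [hgx, happ, hyu, mul_zero, zero_smul, add_zero, div_mul_cancel₀ _ hyy, sub_smul, one_smul, add_sub_cancel]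

end Elements

theorem extension_normalizer_maximal {F : Type*} [Field F] [Fintype F] (n q : ℕ) (hF : Fintype.card F = q ^ 2)
    (hn4 : 4 ≤ n) (r : ℕ) (hr : r.Prime) (hro : Odd r) (hrn : r < n)
    (hex : ¬(q = 2 ∧ r = 3) ∨ 3 * r ≤ n)
    (K : Subalgebra F (Matrix (Fin n) (Fin n) F)) (hK : IsFieldSubalgebra r K)
    (hac : IsAdjointClosedFor (hermForm n F q) K) :
    IsMaximalIn (GU n F q ⊓ specialLinear (Fin n) F)
      (subalgebraNormalizer K ⊓ (GU n F q ⊓ specialLinear (Fin n) F)) := by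
  classical
  obtain ⟨-, -, σ, -, -, -, -, hσ⟩ := exists_usigma hF
  have hU := hσ.isUnitaryForm (n := n)
  have hS := semiForm_of_unitary hU
  haveI : Finite K := Finite.of_injective _ Subtype.val_injective
  letI : CommRing K := { K.toRing with mul_comm := fun a b => Subtype.ext (hK.comm a a.2 b b.2) }
  haveI : Nonempty (Fin n) := ⟨⟨0, by omega⟩⟩
  haveI : Nontrivial K := ⟨⟨0, 1, fun e => zero_ne_one (congrArg Subtype.val e)⟩⟩
  haveI : NoZeroDivisors K := ⟨fun {a b} hab =>
    (fieldSubalgebra_mul_eq_zero hK a.2 (congrArg Subtype.val hab)).imp (fun h => Subtype.ext h) fun h => Subtype.ext h⟩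
  haveI : IsDomain K := NoZeroDivisors.to_isDomain _
  letI : Field K := (Finite.isDomain_to_isField K).toField
  letI : Fintype K := Fintype.ofFinite K
  letI : Module K (Fin n → F) :=
    { smul := fun k v => (k : Matrix (Fin n) (Fin n) F) *ᵥ v
      one_smul := fun v => Matrix.one_mulVec v
      mul_smul := fun a b v => (Matrix.mulVec_mulVec v _ _).symm
      smul_zero := fun a => Matrix.mulVec_zero _
      smul_add := fun a u v => Matrix.mulVec_add _ u v
      add_smul := fun a b v => Matrix.add_mulVec _ _ v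
      zero_smul := fun v => Matrix.zero_mulVec v }
  have hsmul : ∀ (k : K) (v : Fin n → F), k • v = (k : Matrix (Fin n) (Fin n) F) *ᵥ v := fun _ _ => rfl
  haveI : IsScalarTower F K (Fin n → F) := ⟨fun a k v => Matrix.smul_mulVec a (k : Matrix (Fin n) (Fin n) F) v⟩
  haveI : Module.Finite K (Fin n → F) := Module.Finite.of_finite
  haveI := finiteDimensional (F := F) (E := K)
  have hrk : Module.finrank F K = r := hK.finrank_eq
  have hr3 : 3 ≤ r := by have := hr.two_le; obtain ⟨j, rfl⟩ := hro; omega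
  obtain ⟨k, hkdef⟩ : ∃ k, Module.finrank K (Fin n → F) = k := ⟨_, rfl⟩
  have hnk : r * k = n := by
    have h := Module.finrank_mul_finrank F K (Fin n → F)
    rwa [hrk, hkdef, Module.finrank_fin_fun] at h
  have hk2 : 2 ≤ k := by
    by_contra h
    have := Nat.mul_le_mul_left r (show k ≤ 1 by omega)
    omega
  have hexk : ¬(q = 2 ∧ r = 3) ∨ 3 ≤ k :=
    hex.imp id fun h1 => Nat.le_of_mul_le_mul_left (show r * 3 ≤ r * k by omega) hr.pos
  -- the involution
  have hex' : ∀ c : K, ∃ c' : K, ∀ u v, hermForm n F q (c • u) v = hermForm n F q u (c' • v) := fun c => by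
    obtain ⟨c', hc', h⟩ := hac c c.2
    exact ⟨⟨c', hc'⟩, h⟩
  choose t ht using hex'
  have huniqv : ∀ x y : Fin n → F, (∀ u, hermForm n F q u x = hermForm n F q u y) → x = y := fun x y h => by
    by_contra hne
    obtain ⟨u, hu⟩ := (hU.nondegenerate (x - y) (sub_ne_zero.mpr hne)).1
    refine hu ?_
    have h1 := hS.add_right u (x - y) y
    rw [sub_add_cancel, h u, right_eq_add] at h1
    exact h1
  have huk : ∀ c d : K, (∀ v : Fin n → F, c • v = d • v) → c = d := fun c d h => by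
    obtain ⟨v, hv⟩ := exists_ne (0 : Fin n → F)
    exact smul_left_injective K hv (h v)
  have ht2 : ∀ c : K, t (t c) = c := fun c => huk _ _ fun v => huniqv _ _ fun u => by
    rw [← ht (t c) u v, hU.herm (t c • u) v, ← ht c v u, ← hU.herm]
  let τ : K ≃+* K :=
    { toFun := t
      invFun := t
      left_inv := ht2
      right_inv := ht2
      map_mul' := fun c d => huk _ _ fun v => huniqv _ _ fun u => by
        rw [← ht, mul_comm (t c), mul_smul (t d), ← ht d, ← ht c, smul_smul]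
      map_add' := fun c d => huk _ _ fun v => huniqv _ _ fun u => by
        rw [← ht, add_smul, add_smul, hS.add_left, hS.add_right, ← ht, ← ht] }
  have hτt : ∀ c : K, τ c = t c := fun c => rfl
  have hτ : IsExtInv σ τ := by
    refine ⟨ht2, fun a => huk _ _ fun v => huniqv _ _ fun u => ?_, ?_⟩
    · rw [hτt, ← ht, IsScalarTower.algebraMap_smul, IsScalarTower.algebraMap_smul, hS.smul_left, hS.smul_right,
        hσ.involutive]
    · by_contra hcon
      push Not at hcon
      exact hσ.ne_refl (RingEquiv.ext hcon)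
  have hnd := traceForm_nondegenerate F K
  -- the form over the big field
  have hexb : ∀ u v : Fin n → F, ∃ b : K, ∀ c : K, Algebra.trace F K (c * b) = hermForm n F q (c • u) v := by
    intro u v
    let l : Module.Dual F K :=
      { toFun := fun c => hermForm n F q (c • u) v
        map_add' := fun a b => by rw [add_smul, hS.add_left]
        map_smul' := fun a b => by rw [RingHom.id_apply, smul_assoc, hS.smul_left, smul_eq_mul] }
    refine ⟨(LinearMap.BilinForm.toDual (Algebra.traceForm F K) hnd).symm l, fun c => ?_⟩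
    have h := LinearMap.BilinForm.apply_toDual_symm_apply (hB := hnd) l c
    rw [Algebra.traceForm_apply, mul_comm] at h
    exact h
  choose b hb using hexb
  have huniq : ∀ x y : K, (∀ c, Algebra.trace F K (c * x) = Algebra.trace F K (c * y)) → x = y := fun x y h => by
    refine sub_eq_zero.mp (hnd.2 _ fun c => ?_)
    rw [Algebra.traceForm_apply, mul_sub, map_sub, h, sub_self]
  have htr : ∀ u v, Algebra.trace F K (b u v) = hermForm n F q u v := fun u v => by
    have h := hb u v 1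
    rwa [one_mul, one_smul] at h
  have hφ : IsHerm τ b := by
    refine ⟨fun x y z => huniq _ _ fun c => by rw [mul_add, map_add, hb, hb, hb, smul_add, hS.add_left],
      fun d x z => huniq _ _ fun c => by rw [hb, smul_smul, ← mul_assoc, hb],
      fun x y => huniq _ _ fun c => ?_, fun x h => ?_⟩
    · rw [hb, show c * τ (b x y) = τ (t c * b x y) by rw [map_mul, hτt (t c), ht2], hτ.tr_tau, hb, ht (t c), ht2,
        ← hU.herm]
    · by_contra hx
      obtain ⟨y, hy⟩ := (hU.nondegenerate x hx).2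
      exact hy (by rw [← htr, h, map_zero])
  obtain ⟨μ, hμ, hμ2, hcase⟩ := exists_mu hσ hτ hrk hro hr3 hexk
  let Φ : ((Fin n → F) ≃ₗ[F] (Fin n → F)) ≃* GL (Fin n) F :=
    (LinearMap.GeneralLinearGroup.generalLinearEquiv F (Fin n → F)).symm.trans
      (Units.mapEquiv LinearMap.toMatrixAlgEquiv'.toMulEquiv)
  have hact : ∀ (g : (Fin n → F) ≃ₗ[F] (Fin n → F)) (v : Fin n → F),
      (Φ g : Matrix (Fin n) (Fin n) F) *ᵥ v = g v := fun g v => by
    change LinearMap.toMatrix' g.toLinearMap *ᵥ v = _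
    rw [LinearMap.toMatrix'_mulVec]
    rfl
  have hisom : ∀ g, Φ g ∈ GU n F q ↔ ∀ x y, Algebra.trace F K (b (g x) (g y)) = Algebra.trace F K (b x y) := fun g => by
    rw [mem_GU_iff]
    simp only [htr, hact]
  have hdetΦ : ∀ g, Φ g ∈ specialLinear (Fin n) F ↔ LinearMap.det g.toLinearMap = 1 := fun g => by
    rw [mem_specialLinear_iff]
    change (LinearMap.toMatrix' g.toLinearMap).det = 1 ↔ _
    rw [LinearMap.det_toMatrix']
  have hsemi : ∀ g, SemiV K g ↔ Φ g ∈ subalgebraNormalizer K := by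
    intro g
    constructor
    · rintro ⟨s, hs⟩
      have hconj : ∀ c : K, (Φ g : Matrix (Fin n) (Fin n) F) * (c : Matrix (Fin n) (Fin n) F) *
          (((Φ g)⁻¹ : GL (Fin n) F) : Matrix (Fin n) (Fin n) F) = (s c : Matrix (Fin n) (Fin n) F) := fun c => by
        refine Matrix.ext_of_mulVec_single fun i => ?_
        rw [← Matrix.mulVec_mulVec, ← Matrix.mulVec_mulVec, hact, ← hsmul, hs, ← hact, gl_mulVec_inv_cancel, hsmul]
      have hinj : Function.Injective s := fun a b h => by
        obtain ⟨v, hv⟩ := exists_ne (0 : Fin n → F)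
        exact smul_left_injective K hv (g.injective (show g (a • v) = g (b • v) by rw [hs, hs, h]))
      intro c
      refine ⟨fun hc => by rw [hconj ⟨c, hc⟩]; exact (s ⟨c, hc⟩).2, fun hc => ?_⟩
      obtain ⟨c₀, hc₀⟩ := Finite.surjective_of_injective hinj ⟨_, hc⟩
      have h2 := congrArg Subtype.val hc₀
      rw [← hconj c₀] at h2
      have h3 : (c₀ : Matrix (Fin n) (Fin n) F) = c :=
        (Φ g).isUnit.mul_left_cancel ((((Φ g)⁻¹).isUnit).mul_right_cancel h2)
      rw [← h3]
      exact c₀.2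
    · intro hg
      refine ⟨fun c => ⟨_, (hg c).mp c.2⟩, fun c v => ?_⟩
      rw [hsmul, hsmul, ← hact, ← hact, Matrix.mulVec_mulVec, Matrix.mulVec_mulVec,
        Matrix.mul_assoc _ _ (Φ g : Matrix (Fin n) (Fin n) F), ← Units.val_mul, inv_mul_cancel,
        Units.val_one, Matrix.mul_one]
  have mk : ∀ M : Subgroup (GL (Fin n) F), subalgebraNormalizer K ⊓ (GU n F q ⊓ specialLinear (Fin n) F) ≤ M →
      M ≤ GU n F q ⊓ specialLinear (Fin n) F → Setup σ τ b μ (M.comap Φ.toMonoidHom) r := by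
    intro M hM hMS
    have hN : ∀ g : (Fin n → F) ≃ₗ[F] (Fin n → F), SemiV K g →
        (∀ x y, Algebra.trace F K (b (g x) (g y)) = Algebra.trace F K (b x y)) →
        LinearMap.det g.toLinearMap = 1 → g ∈ M.comap Φ.toMonoidHom := fun g hg hgi hgd =>
      hM ⟨(hsemi g).mp hg, (hisom g).mpr hgi, (hdetΦ g).mpr hgd⟩
    exact ⟨hτ, hφ, hrk, hr, hr3, hμ, hμ2, fun g hg => (hisom g).mp (hMS hg).1,
      exists_long hφ hN, exists_short hτ hφ hN,
      exists_eigen hτ hφ hN hμ (fun a ha => hμ2 (a * a) (by rw [map_mul, ha])) hkdef (by omega) hcase,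
      exists_scale hτ hφ hN hμ hkdef (by omega) hcase⟩
  obtain ⟨e₀, he₀, hee₀⟩ : ∃ e : Fin n → F, e ≠ 0 ∧ b e e = 0 := by
    obtain ⟨v, hv⟩ := exists_ne (0 : Fin n → F)
    by_cases hvv : b v v = 0
    · exact ⟨v, hv, hvv⟩
    obtain ⟨w, hw, hw0⟩ : ∃ w, b w v = 0 ∧ w ≠ 0 := by
      by_contra hcon
      push Not at hcon
      have h1 := LinearMap.finrank_range_add_finrank_ker (dual hφ v (1 : K))
      have h2 := Submodule.finrank_le (LinearMap.range (dual hφ v (1 : K)))
      rw [show LinearMap.ker (dual hφ v (1 : K)) = ⊥ from (Submodule.eq_bot_iff _).mpr fun x hx =>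
        hcon x (by simpa [dual_apply] using LinearMap.mem_ker.mp hx), finrank_bot, hkdef] at h1
      rw [Module.finrank_self] at h2
      omega
    by_cases hww : b w w = 0
    · exact ⟨w, hw0, hww⟩
    obtain ⟨c, -, hc⟩ := (big_usigma hσ hτ hrk hro).norm_surjective (t := -b v v / b w w)
      (div_ne_zero (neg_ne_zero.mpr hvv) hww) (by rw [map_div₀, map_neg, hφ.self_fixed, hφ.self_fixed])
    refine ⟨v + c • w, fun h => hvv ?_, ?_⟩
    · have h' := congrArg (fun y => b y v) h
      simpa [hφ.add_left, hφ.smul_left, hw, hφ.zero_left] using h'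
    · simp only [hφ.add_left, hφ.add_right, hφ.smul_left, hφ.smul_right, hw, hφ.comm_zero hw, mul_zero, add_zero,
        zero_add, ← mul_assoc, hc, div_mul_cancel₀ _ hww, add_neg_cancel]
  refine ⟨lt_of_le_of_ne inf_le_right fun h => ?_, fun M hM hMS => ?_⟩
  · -- a transvection outside the normaliser
    have hS' := mk _ le_rfl inf_le_right
    obtain ⟨e', he', hee'⟩ := hφ.exists_dual hτ he₀ hee₀
    have he'0 : e' ≠ 0 := fun h0 => one_ne_zero (α := K) (by rw [← he', h0, hφ.zero_left])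
    obtain ⟨a, ha0, has⟩ := hS'.exists_skew
    obtain ⟨g', hg', hg'x⟩ := hσ.exists_transvection (v := e₀) (by rw [← htr, hee₀, map_zero]) (c := a)
      (by rw [has, add_neg_cancel])
    obtain ⟨g, rfl⟩ := Φ.surjective g'
    obtain ⟨s, hs⟩ := (hsemi g).mpr (h.ge hg').1
    refine hS'.breaks he'0 hee' hee₀ (by rw [he']; exact one_ne_zero) ha0 (g := g) (fun x => ?_)
      fun c => ⟨s c, hs c e'⟩
    have h1 := hg'x x
    rw [hact, ← htr, ← IsScalarTower.algebraMap_smul K (a * _)] at h1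
    exact h1
  have hX := mk M hM hMS
  rcases hX.overgroup he₀ hee₀ with h | h
  · refine Or.inl (le_antisymm (fun x hx => ?_) hM)
    obtain ⟨g, rfl⟩ := Φ.surjective x
    exact ⟨(hsemi g).mp (h g hx), hMS hx⟩
  refine Or.inr (le_antisymm hMS (UOver.suGL_le hσ hn4 ?_))
  have hiso : ∀ e, b e e = 0 → ∀ a, a + σ a = 0 → ∀ g, UOver.Tv q g e a → g ∈ M := by
    intro e hee a ha g hg
    obtain ⟨t, ht', htx⟩ := h e hee a (eq_neg_of_add_eq_zero_right ha)
    have he : g = Φ t := gl_ext_mulVec fun x => by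
      rw [hg, hact, htx, htr, IsScalarTower.algebraMap_smul]
    rw [he]
    exact ht'
  intro v a hv ha g hg
  by_cases hvv : b v v = 0
  · exact hiso v hvv a ha g hg
  have hv0 : v ≠ 0 := fun h0 => hvv (by rw [h0, hφ.zero_left])
  obtain ⟨e, hee, hve⟩ : ∃ e, b e e = 0 ∧ b v e ≠ 0 := by
    by_cases h1 : b v e₀ = 0
    · obtain ⟨u, hu1, hu2⟩ := hφ.exists_common hv0 he₀
      obtain ⟨z, hz⟩ := hφ.exists_isotropic_shift hτ hee₀ hu2
      refine ⟨u + z • e₀, hz, fun h2 => hu1 ?_⟩
      rw [hφ.add_right, hφ.smul_right, h1, mul_zero, add_zero] at h2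
      exact hφ.comm_zero h2
    · exact ⟨e₀, hee₀, h1⟩
  obtain ⟨z, hz, hztr⟩ : ∃ z : K, z + τ z = b v v ∧ Algebra.trace F K z ≠ 0 := by
    obtain ⟨z, hz⟩ := hτ.exists_half (hφ.self_fixed v)
    by_cases h1 : Algebra.trace F K z = 0
    · obtain ⟨c₀, hc₀⟩ := Algebra.trace_surjective F K 1
      obtain ⟨l, hl, hls⟩ := hτ.exists_ne
      obtain ⟨c₁, c₂, hc₁, hc₂, hcc⟩ := hτ.split hl c₀
      obtain ⟨c, hc, hctr⟩ : ∃ c : K, τ c = c ∧ Algebra.trace F K c ≠ 0 := by
        by_cases h2 : Algebra.trace F K c₁ = 0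
        · refine ⟨c₂, hc₂, fun h3 => one_ne_zero (α := F) ?_⟩
          rw [← hc₀, hcc, map_add, map_smul, h2, h3, smul_zero, add_zero]
        · exact ⟨c₁, hc₁, h2⟩
      refine ⟨z + (l - σ l) • c, ?_, ?_⟩
      · rw [map_add, hτ.tau_smul, hls, hc, neg_smul, ← hz]; abel
      · rw [map_add, map_smul, h1, zero_add, smul_eq_mul]
        exact mul_ne_zero hl hctr
    · exact ⟨z, hz, h1⟩
  obtain ⟨x, hx⟩ : ∃ x, x = τ (z / b v e) • e := ⟨_, rfl⟩
  have hvx : b v x = z := by rw [hx, hφ.smul_right, hτ.invol, div_mul_cancel₀ _ hve]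
  have hxx : b x x = 0 := by rw [hx, hφ.smul_left, hφ.smul_right, hee, mul_zero, mul_zero]
  have hxv : b x v = τ z := by rw [hφ.symm v x, hvx]
  obtain ⟨y, hy⟩ : ∃ y, y = v - x := ⟨_, rfl⟩
  have hyy : b y y = 0 := by
    rw [hy, hφ.sub_left, hφ.sub_right, hφ.sub_right, hvx, hxv, hxx]
    linear_combination -hz
  have hfyx : hermForm n F q y x = Algebra.trace F K z := by
    rw [← htr, hy, hφ.sub_left, hvx, hxx, sub_zero]
  have hskew : (Algebra.trace F K z)⁻¹ + σ (Algebra.trace F K z)⁻¹ = 0 := by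
    have h1 := congrArg (Algebra.trace F K) hz
    rw [map_add, hτ.tr_tau, htr v v, hv] at h1
    rw [map_inv₀, eq_neg_of_add_eq_zero_right h1, inv_neg, add_neg_cancel]
  obtain ⟨t, ht', htx⟩ := hσ.exists_transvection (v := x) (by rw [← htr, hxx, map_zero]) hskew
  have htM : t ∈ M := hiso x hxx _ hskew t htx
  have hty : (t : Matrix (Fin n) (Fin n) F) *ᵥ y = v := by
    rw [htx, hfyx, inv_mul_cancel₀ hztr, one_smul, hy, sub_add_cancel]
  have hty' : ((t⁻¹ : GL (Fin n) F) : Matrix (Fin n) (Fin n) F) *ᵥ v = y := by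
    rw [← hty, Matrix.mulVec_mulVec, ← Units.val_mul, inv_mul_cancel, Units.val_one, Matrix.one_mulVec]
  have hconj := UOver.tv_conj (inv_mem ht'.1) hg
  rw [hty'] at hconj
  have h2 := mul_mem (mul_mem htM (hiso y hyy a ha _ hconj)) (inv_mem htM)
  simpa [mul_assoc] using h2

end Cfsg.Agent.Classical.FieldExt.Herm
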